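import Mathlib

/-!
The arithmetic at the end of the argument.
-/

set_option autoImplicit false

open scoped BigOperators

namespace CfsgLib.SCThree

theorem sum_sub_one_le_prod {ι : Type*} (s : Finset ι) (f : ι → ℕ) (hf : ∀ i ∈ s, 1 ≤ f i) :
    ∑ i ∈ s, (f i - 1) ≤ (∏ i ∈ s, f i) - 1 := by
  classical
  induction s using Finset.induction_on with
  | empty => simp
  | insert a s ha ih =>
    rw [Finset.sum_insert ha, Finset.prod_insert ha]
    have h1 := hf a (Finset.mem_insert_self a s)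
    have h2 := ih fun i hi => hf i (Finset.mem_insert_of_mem hi)
    have h3 : 1 ≤ ∏ i ∈ s, f i := Finset.one_le_prod' fun i hi => hf i (Finset.mem_insert_of_mem hi)
    have h4 : f a + (∏ i ∈ s, f i) ≤ f a * (∏ i ∈ s, f i) + 1 := by nlinarith
    omega

/-- At least two classes of even order: `A` is the product of the odd parts. -/
theorem bound_many {g A Q k S : ℕ} (hg : g = 24 * (A * Q * k)) (hA : 1 ≤ A) (hQ : Q = 1 ∨ 4 ≤ Q)
    (hk : 1 ≤ k) (hS : S ≤ A + 2) (hS7 : Q = 1 → 7 * S ≤ 3 * (A * k))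
    (hlt : g < 9 * (1 + 4 * S + 2 * (Q - 1))) : g < 660 := by
  rcases hQ with rfl | hQ
  · have := hS7 rfl
    rw [mul_one] at hg
    omega
  · have hAQ : A * Q ≤ A * Q * k := Nat.le_mul_of_pos_right _ (by omega)
    rcases Nat.lt_or_ge A 2 with hA2 | hA2
    · obtain rfl : A = 1 := by omega
      rw [one_mul] at hg hAQ
      omega
    · have h1 : 2 * Q ≤ A * Q := Nat.mul_le_mul_right _ hA2
      have h2 : A * 4 ≤ A * Q := Nat.mul_le_mul_left _ hQ
      omega

/-- One class. -/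
theorem bound_one {g m k : ℕ} (hg : g = 3 * (m * k)) (hm : 1 ≤ m) (hk : 7 ≤ k)
    (hlt : g < 9 * (1 + 2 * (m - 1))) : False := by
  have : m * 7 ≤ m * k := Nat.mul_le_mul_left _ hk
  omega

/-- Several classes with pairwise coprime orders. -/
theorem bound_two {g a Q k : ℕ} (hg : g = 3 * (a * Q * k)) (ha : 7 ≤ a) (ha3 : a % 3 = 1)
    (hQ3 : Q % 3 = 1) (hQ : 4 ≤ Q) (hk : 7 ≤ Q * k)
    (hlt : g < 9 * (1 + 2 * (a - 1) + 2 * (Q - 1))) : g < 660 := by
  have hk1 : 1 ≤ k := by
    rcases Nat.eq_zero_or_pos k with rfl | h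
    · simp at hk
    · exact h
  rcases (show Q = 4 ∨ 7 ≤ Q by omega) with rfl | hQ7
  · have h2 : 2 ≤ k := by omega
    have h3 : a * 4 * 2 ≤ a * 4 * k := Nat.mul_le_mul_left _ h2
    omega
  · have h1 : a * Q ≤ a * Q * k := Nat.le_mul_of_pos_right _ hk1
    have ha' : a ≤ 32 := by
      by_contra hc
      obtain ⟨r, rfl⟩ : ∃ r, Q = 7 + r := ⟨Q - 7, by omega⟩
      have h2 : 6 * r ≤ a * r := Nat.mul_le_mul_right _ (by omega)
      rw [mul_add] at h1 hg
      omega
    interval_cases a <;> (first | omega | nlinarith)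

end CfsgLib.SCThree
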