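import Cfsg.Agent.Lib.SelfCentThree.Classes
import Cfsg.Agent.Lib.SelfCentThree.Arith
import Cfsg.Agent.S0496

/-!
The simple groups with a self-centralizing element of order three have order 60 or 168.
-/

set_option autoImplicit false
set_option linter.unusedVariables false

open scoped BigOperators

namespace CfsgLib.SCThree

open CfsgLib.SelfCent

universe u

variable {G : Type u} [Group G] [Finite G] {x t : G}

/-- `M'` is `M` or its conjugate by the inverting element `t`. -/
def Rel (t : G) (M M' : Subgroup G) : Prop := M' = M ∨ M' = cj t M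

theorem cj_eq_of_mem {M : Subgroup G} {g : G} (hg : g ∈ Subgroup.normalizer (M : Set G)) :
    cj g M = M := Subgroup.mem_normalizer_iff_map_conj_eq.mp hg

theorem sq_mem (h : SC x) (ht : t * x * t⁻¹ = x⁻¹) : t * t ∈ Subgroup.zpowers x := by
  apply comm_mem_zpowers h
  have h1 : t * x⁻¹ * t⁻¹ = x := by
    rw [show t * x⁻¹ * t⁻¹ = (t * x * t⁻¹)⁻¹ by group, ht, inv_inv]
  calc t * t * x = t * (t * x * t⁻¹) * t := by group
    _ = (t * x⁻¹ * t⁻¹) * (t * t) := by rw [ht]; group
    _ = _ := by rw [h1]

theorem Rel.symm (h : SC x) (ht : t * x * t⁻¹ = x⁻¹) {M M' : Subgroup G} (hM : Inv x M)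
    (hr : Rel t M M') : Rel t M' M := by
  rcases hr with e | e
  · exact Or.inl e.symm
  · refine Or.inr ?_
    rw [e, cj_cj, cj_eq_of_mem ((Subgroup.zpowers_le.mpr hM.1) (sq_mem h ht))]

/-- Maximal subgroups with conjugate parts are related. -/
theorem Setup.related (hs : Setup x) (ht : t * x * t⁻¹ = x⁻¹) {p : ℕ} [Fact p.Prime]
    {M M' : Subgroup G} (hM : IsMax x M) (hM' : IsMax x M') (hp : p ∣ Nat.card M)
    (hp' : p ∣ Nat.card M') {g : G} (he : part p M' = cj g (part p M)) : Rel t M M' := by
  have hN : ∀ a : G, a ∈ Subgroup.normalizer (M' : Set G) ↔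
      g⁻¹ * a * g ∈ Subgroup.normalizer (M : Set G) := fun a => by
    rw [← hs.normalizer_part p hM' hp', ← hs.normalizer_part p hM hp, he, mem_normalizer_cj]
  -- the cores agree
  have hMM' : cj g M = M' := by
    refine le_antisymm ?_ ?_
    · conv_rhs => rw [← (hs.normalizer_max hM').1]
      refine le_coreIn ?_ ?_ (by rw [card_cj]; exact hM.1.2)
      · intro a ha
        exact (hN a).mpr (Subgroup.le_normalizer (mem_cj.mp ha))
      · intro a ha
        exact mem_normalizer_cj.mpr ((hN a).mp ha)
    · have h2 : cj g⁻¹ M' ≤ M := by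
        conv_rhs => rw [← (hs.normalizer_max hM).1]
        refine le_coreIn ?_ ?_ (by rw [card_cj]; exact hM'.1.2)
        · intro a ha
          have := (hN _).mp (Subgroup.le_normalizer (mem_cj.mp ha))
          simpa [mul_assoc] using this
        · intro a ha
          refine mem_normalizer_cj.mpr ((hN _).mpr ?_)
          simpa [mul_assoc] using ha
      have := Subgroup.map_mono (f := (MulAut.conj g).toMonoidHom) h2
      rwa [show Subgroup.map (MulAut.conj g).toMonoidHom (cj g⁻¹ M') = M' by
        rw [← cj, cj_cj, mul_inv_cancel, cj_one]] at this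
  -- move the conjugating element into the normalizer of `⟨x⟩`
  set H := Subgroup.normalizer (M' : Set G) with hH
  have hx : x ∈ H := hM'.1.1
  have hgx : g * x * g⁻¹ ∈ H := by
    rw [hN]; simpa [mul_assoc] using hM.1.1
  have hz3 : orderOf (g * x * g⁻¹) = 3 := by
    rw [← hs.sc.2.1, ← MulAut.conj_apply, MulEquiv.orderOf_eq]
  have hxs := hs.sc.subgroup hx
  obtain ⟨⟨n, hn⟩, hne⟩ := card_P_mem_conj hxs (H := Subgroup.zpowers (⟨g * x * g⁻¹, hgx⟩ : H))
    (by rw [Nat.card_zpowers, ← Subgroup.orderOf_coe]; exact hz3)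
  have hmem : n * x * n⁻¹ ∈ Subgroup.zpowers (g * x * g⁻¹) := by
    have h1 : (⟨n, hn⟩ * ⟨x, hx⟩ * ⟨n, hn⟩⁻¹ : H) ∈
        Subgroup.zpowers (⟨g * x * g⁻¹, hgx⟩ : H) := by
      rw [← hne]; exact ⟨⟨x, hx⟩, Subgroup.mem_zpowers _, rfl⟩
    obtain ⟨k, hk⟩ := Subgroup.mem_zpowers_iff.mp h1
    exact Subgroup.mem_zpowers_iff.mpr ⟨k, congrArg Subtype.val hk⟩
  set g' := n⁻¹ * g with hg'
  have hg'x : g'⁻¹ * x * g' ∈ Subgroup.zpowers x := by
    obtain ⟨k, hk⟩ := Subgroup.mem_zpowers_iff.mp hmem
    rw [conj_zpow] at hk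
    refine Subgroup.mem_zpowers_iff.mpr ⟨k, ?_⟩
    calc x ^ k = g⁻¹ * (g * x ^ k * g⁻¹) * g := by group
      _ = g⁻¹ * (n * x * n⁻¹) * g := by rw [hk]
      _ = _ := by rw [hg']; group
  have hg'M : cj g' M = M' := by
    rw [hg', ← cj_cj, hMM', cj_eq_of_mem (inv_mem hn)]
  rcases mem_zpowers_cases hs.sc hg'x with e | e | e
  · exfalso
    apply hs.sc.ne_one
    calc x = g' * (g'⁻¹ * x * g') * g'⁻¹ := by group
      _ = 1 := by rw [e]; group
  · left
    have : g' ∈ Subgroup.zpowers x := comm_mem_zpowers hs.sc (by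
      calc g' * x = g' * (g'⁻¹ * x * g') := by rw [e]
        _ = x * g' := by group)
    rw [← hg'M, cj_eq_of_mem ((Subgroup.zpowers_le.mpr hM.1.1) this)]
  · right
    have : t⁻¹ * g' ∈ Subgroup.zpowers x := comm_mem_zpowers hs.sc (by
      have h1 : g' * x * g'⁻¹ = x⁻¹ := by
        calc g' * x * g'⁻¹ = g' * (g'⁻¹ * x * g')⁻¹ * g'⁻¹ := by rw [e, inv_inv]
          _ = _ := by group
      calc t⁻¹ * g' * x = t⁻¹ * (g' * x * g'⁻¹) * g' := by group
        _ = t⁻¹ * (t * x * t⁻¹) * g' := by rw [h1, ht]
        _ = _ := by group)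
    rw [← hg'M, show g' = t * (t⁻¹ * g') by group, ← cj_cj,
      cj_eq_of_mem ((Subgroup.zpowers_le.mpr hM.1.1) this)]

theorem Setup.six_fixed (hs : Setup x) (ht : t * x * t⁻¹ = x⁻¹) {M : Subgroup G} (hM : IsMax x M)
    (h6 : Nat.card (Subgroup.normalizer (M : Set G)) = 6 * Nat.card M) : cj t M = M := by
  set H := Subgroup.normalizer (M : Set G)
  have hx : x ∈ H := hM.1.1
  have hxs := hs.sc.subgroup hx
  have hm := hM.1.card_mod hs.sc
  by_contra hne
  -- no element of `H` inverts `x`, so `H ∩ N(⟨x⟩) = ⟨x⟩`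
  have hN : nzr (⟨x, hx⟩ : H) = Subgroup.zpowers ⟨x, hx⟩ := by
    refine le_antisymm ?_ self_le_nzr
    rintro ⟨a, ha⟩ han
    rcases mem_zpowers_cases hxs ((mem_nzr_iff hxs).mp han) with e | e | e
    · exact absurd (conj_eq_one_iff.mp e) hxs.ne_one
    · exact comm_mem_zpowers hxs (mul_inv_eq_iff_eq_mul.mp e)
    · exfalso
      apply hne
      have e' : a * x * a⁻¹ = x⁻¹ := congrArg Subtype.val e
      have : a⁻¹ * t ∈ Subgroup.zpowers x := comm_mem_zpowers hs.sc (by
        calc a⁻¹ * t * x = a⁻¹ * (t * x * t⁻¹) * t := by group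
          _ = a⁻¹ * (a * x * a⁻¹) * t := by rw [ht, e']
          _ = _ := by group)
      refine cj_eq_of_mem ?_
      rw [show t = a * (a⁻¹ * t) by group]
      exact mul_mem ha ((Subgroup.zpowers_le.mpr hx) this)
  haveI : Fact (Nat.Prime 3) := ⟨Nat.prime_three⟩
  obtain ⟨P, hP⟩ := exists_sylow hxs
  have h1 := card_sylow_modEq_one 3 H
  have hP' : ((P : Set H)) = ((Subgroup.zpowers (⟨x, hx⟩ : H) : Subgroup H) : Set H) := by
    rw [← hP]; rfl
  rw [Sylow.card_eq_index_normalizer P, hP'] at h1
  have h2 := Subgroup.card_mul_index (nzr (⟨x, hx⟩ : H))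
  rw [hN, hxs.card_P, h6] at h2
  unfold nzr at hN
  rw [hN] at h1
  have : (Subgroup.zpowers (⟨x, hx⟩ : H)).index = 2 * Nat.card M := by omega
  rw [this, Nat.ModEq] at h1
  omega

theorem part_two_dvd (hs : Setup x) {M : Subgroup G} (hM : IsMax x M) (P : Sylow 2 G)
    (hle : part 2 M ≤ (P : Subgroup G)) (h2 : 2 ∣ Nat.card M) :
    Piece (P : Subgroup G) (part 2 M) x := by
  haveI : Fact (Nat.Prime 2) := ⟨Nat.prime_two⟩
  have hInv := inv_part 2 hs.sc hM.1
  have hN := hs.normalizer_part 2 hM h2
  obtain ⟨hcore, hcard⟩ := hs.normalizer_max hM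
  set H := Subgroup.normalizer (M : Set G) with hH
  haveI := hM.1.isNilpotent hs.sc
  have hinP : ∀ a ∈ (P : Subgroup G), a ∈ M → a ∈ part 2 M := fun a ha haM =>
    le_part 2 (Subgroup.zpowers_le.mpr haM)
      (P.isPGroup'.to_le (Subgroup.zpowers_le.mpr ha)) (Subgroup.mem_zpowers a)
  refine ⟨hle, P.isPGroup', part_ne_bot 2 h2, hs.sc, hInv, ?_, ?_, ?_⟩
  · intro p hp hc
    refine hinP p hp ?_
    let C := Subgroup.centralizer (part 2 M : Set G)
    have hCH : C ≤ H := fun a ha => by
      rw [← hN]; exact Subgroup.centralizer_le_normalizer _ ha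
    have hle' : C ≤ coreIn H := by
      refine le_coreIn hCH ?_ ?_
      · intro a ha
        rw [Subgroup.mem_normalizer_iff]
        have haD : a ∈ Subgroup.normalizer (part 2 M : Set G) := hN ▸ ha
        intro c
        simp only [C, Subgroup.mem_centralizer_iff]
        constructor
        · intro hcc d hd
          have := hcc _ ((Subgroup.mem_normalizer_iff.mp (inv_mem haD) d).mp hd)
          rw [inv_inv] at this
          calc d * (a * c * a⁻¹) = a * (a⁻¹ * d * a * c) * a⁻¹ := by group
            _ = a * (c * (a⁻¹ * d * a)) * a⁻¹ := by rw [this]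
            _ = _ := by group
        · intro hcc d hd
          have := hcc _ ((Subgroup.mem_normalizer_iff.mp haD d).mp hd)
          calc d * c = a⁻¹ * ((a * d * a⁻¹) * (a * c * a⁻¹)) * a := by group
            _ = a⁻¹ * ((a * c * a⁻¹) * (a * d * a⁻¹)) * a := by rw [this]
            _ = _ := by group
      · intro hd
        haveI : Fact (Nat.Prime 3) := ⟨Nat.prime_three⟩
        obtain ⟨⟨z, hz⟩, hz3⟩ := exists_prime_orderOf_dvd_card' (G := C) 3 hd
        rw [← Subgroup.orderOf_coe] at hz3
        obtain ⟨⟨d, hd'⟩, hd1⟩ := Subgroup.ne_bot_iff_exists_ne_one.mp (part_ne_bot 2 h2)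
        exact not_three_dvd_of_commute hs.sc (fun e => hd1 (Subtype.ext e))
          (hInv.not_dvd_orderOf hd') (Subgroup.mem_centralizer_iff.mp hz d hd').symm (by rw [hz3])
    rw [← hcore]
    exact hle' (Subgroup.mem_centralizer_iff.mpr fun d hd => (hc d hd).symm)
  · rw [hN]
    obtain ⟨k, hk⟩ := IsPGroup.iff_card.mp (P.isPGroup'.to_le
      (inf_le_left : (P : Subgroup G) ⊓ H ≤ P))
    have hd := Subgroup.card_dvd_of_le (inf_le_right : (P : Subgroup G) ⊓ H ≤ H)
    rw [hk] at hd ⊢
    rw [card_part, ← pow_succ']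
    refine Nat.pow_le_pow_right (by norm_num) ?_
    have h6 : 2 ^ k ∣ 6 * Nat.card M := by
      rcases hcard with e | e <;> rw [e] at hd
      · exact hd.trans ⟨2, by ring⟩
      · exact hd
    have h' := (Nat.Prime.pow_dvd_iff_le_factorization Nat.prime_two
      (mul_ne_zero (by norm_num) Nat.card_pos.ne')).mp h6
    rw [Nat.factorization_mul (by norm_num) Nat.card_pos.ne', Finsupp.add_apply,
      show (6 : ℕ) = 2 * 3 from rfl, Nat.factorization_mul (by norm_num) (by norm_num),
      Finsupp.add_apply, Nat.prime_two.factorization_self,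
      Nat.factorization_eq_zero_of_not_dvd (by norm_num : ¬ 2 ∣ 3)] at h'
    omega
  · intro τ hτ hn
    rw [hN, Subgroup.mem_inf] at hτ
    have hτM : τ ∉ M := fun h => hn (hinP τ hτ.1 h)
    have hx : x ∈ H := hM.1.1
    have hxs := hs.sc.subgroup hx
    have hO := not_three_dvd_core3 (G := H)
    set f := QuotientGroup.mk' (core3 H) with hf
    set q : H := ⟨τ, hτ.2⟩ with hq
    set xq : H := ⟨x, hx⟩
    have hqs := hxs.quotient _ hO
    have hqO : f q ≠ 1 := by
      intro e
      apply hτM
      rw [← hcore]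
      exact ⟨q, (QuotientGroup.eq_one_iff q).mp e, rfl⟩
    obtain ⟨k, hk⟩ : ∃ k, τ ^ 2 ^ k = 1 := by
      obtain ⟨k, hk⟩ := P.isPGroup' ⟨τ, hτ.1⟩
      exact ⟨k, congrArg Subtype.val hk⟩
    have hq2 : f q ^ 2 ^ k = 1 := by
      rw [← map_pow, show q ^ 2 ^ k = 1 from Subtype.ext hk, map_one]
    have hQ : Nat.card (H ⧸ core3 H) ∣ 6 := by
      have h1 : Nat.card (core3 H) * Nat.card (H ⧸ core3 H) = Nat.card H := by
        rw [← Subgroup.index_eq_card, Subgroup.card_mul_index]
      rw [← card_coreIn, hcore] at h1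
      have hp : 0 < Nat.card M := Nat.card_pos
      rcases hcard with e | e <;> rw [e, mul_comm (Nat.card M)] at h1 <;>
        rw [Nat.eq_of_mul_eq_mul_right hp h1]
      norm_num
    set X := Subgroup.zpowers (f xq) with hX
    have hXc : Nat.card X = 3 := hqs.card_P
    haveI : X.Normal := by
      have h1 := Subgroup.card_mul_index X
      have hle := Nat.le_of_dvd (by norm_num) hQ
      rw [hXc] at h1
      have hpos : 0 < X.index := Nat.pos_of_ne_zero Subgroup.index_ne_zero_of_finite
      rcases (show X.index = 1 ∨ X.index = 2 by omega) with e | e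
      · rw [Subgroup.index_eq_one.mp e]; infer_instance
      · exact Subgroup.normal_of_index_eq_two e
    have hnotX : f q ∉ X := by
      intro hmem
      apply hqO
      have h3 : orderOf (f q) ∣ 3 := hXc ▸ Subgroup.orderOf_dvd_natCard X hmem
      have := Nat.dvd_gcd h3 (orderOf_dvd_of_pow_eq_one hq2)
      rw [Nat.Coprime.gcd_eq_one (Nat.Coprime.pow_right k (by norm_num)), Nat.dvd_one] at this
      exact orderOf_eq_one_iff.mp this
    set w : H := q⁻¹ * (xq * q * xq⁻¹) with hw
    have hwX : f w ∈ X := by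
      rw [hw, map_mul, map_mul, map_mul, map_inv, map_inv,
        show (f q)⁻¹ * (f xq * f q * (f xq)⁻¹) = ((f q)⁻¹ * f xq * f q) * (f xq)⁻¹ by group]
      refine mul_mem ?_ (inv_mem (Subgroup.mem_zpowers _))
      simpa using (inferInstance : X.Normal).conj_mem _ (Subgroup.mem_zpowers (f xq)) (f q)⁻¹
    have hw1 : f w ≠ 1 := by
      intro e
      apply hnotX
      apply comm_mem_zpowers hqs
      show f q * f xq = f xq * f q
      rw [hw, map_mul, map_inv, inv_mul_eq_one, map_mul, map_mul, map_inv,
        eq_mul_inv_iff_mul_eq] at e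
      exact e
    have h3 : orderOf (f w) = 3 := by
      rcases Nat.prime_three.eq_one_or_self_of_dvd _
        (hXc ▸ Subgroup.orderOf_dvd_natCard X hwX) with e | e
      · exact absurd (orderOf_eq_one_iff.mp e) hw1
      · exact e
    have e : τ⁻¹ * (x * τ * x⁻¹) = (w : G) := rfl
    rw [e, Subgroup.orderOf_coe]
    exact h3 ▸ orderOf_map_dvd f w

/-- Every proper subgroup has index at least seven. -/
theorem Setup.seven_le_index (hs : Setup x) (hbig : 660 ≤ Nat.card G) {H : Subgroup G} (hH : H ≠ ⊤) :
    7 ≤ H.index := by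
  haveI := hs.simple
  have hd := CfsgLib.SmallOrder.two_mul_card_dvd_factorial hs.noncomm hH
  by_contra hlt
  have h720 : (H.index).factorial ≤ 720 := (Nat.factorial_le (show H.index ≤ 6 by omega)).trans (by decide)
  have := Nat.le_of_dvd (Nat.factorial_pos _) hd
  omega

/-- The order is less than 660. -/
theorem Setup.card_lt (hs : Setup x) : Nat.card G < 660 := by
  classical
  haveI := hs.simple
  by_contra hbig
  push Not at hbig
  obtain ⟨t, ht⟩ := isConj_iff.mp (isConj_inv hs.noncomm hs.sc)
  haveI : Fintype (Subgroup G) := Fintype.ofFinite _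
  -- a largest family of pairwise unrelated maximal subgroups
  let fam : Finset (Finset (Subgroup G)) := Finset.univ.filter fun R =>
    (∀ M ∈ R, IsMax x M) ∧ ∀ M ∈ R, ∀ M' ∈ R, Rel t M M' → M = M'
  obtain ⟨R, hR, hRmax⟩ := Finset.exists_max_image fam (fun R => R.card) ⟨∅, by simp [fam]⟩
  simp only [fam, Finset.mem_filter, Finset.mem_univ, true_and] at hR hRmax
  obtain ⟨hRmem, hRd⟩ := hR
  have hcov : ∀ M, IsMax x M → ∃ r ∈ R, Rel t r M := by
    intro M hM
    by_contra hc; push Not at hc
    have hnot : M ∉ R := fun h => hc M h (Or.inl rfl)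
    have := hRmax (insert M R) ⟨fun N hN => by
        rcases Finset.mem_insert.mp hN with rfl | h
        · exact hM
        · exact hRmem N h, fun N hN N' hN' hrel => by
        rcases Finset.mem_insert.mp hN with rfl | h <;> rcases Finset.mem_insert.mp hN' with rfl | h'
        · rfl
        · exact absurd (hrel.symm hs.sc ht hM.1) (hc _ h')
        · exact absurd hrel (hc _ h)
        · exact hRd _ h _ h' hrel⟩
    rw [Finset.card_insert_of_notMem hnot] at this
    omega
  let m : Subgroup G → ℕ := fun r => Nat.card r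
  let wt : Subgroup G → ℕ := fun r => if cj t r = r then m r - 1 else 2 * (m r - 1)
  have hwt2 : ∀ r, wt r ≤ 2 * (m r - 1) := fun r => by
    simp only [wt]; split_ifs <;> omega
  -- the weighted count
  have hcount : (invSet x).ncard ≤ 1 + ∑ r ∈ R, wt r := by
    let piece : Subgroup G → Set G := fun r => ((r : Set G) \ {1}) ∪ ((cj t r : Subgroup G) : Set G) \ {1}
    have hsub : invSet x ⊆ {1} ∪ ⋃ r ∈ R, piece r := by
      rintro u ⟨M, hM, hu⟩
      rcases eq_or_ne u 1 with e | hu1
      · exact Or.inl e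
      right
      obtain ⟨M', hM', hle⟩ := exists_isMax hM (fun e => hu1 (Subgroup.mem_bot.mp (e ▸ hu)))
      obtain ⟨r, hr, hrel⟩ := hcov M' hM'
      simp only [Set.mem_iUnion]
      refine ⟨r, hr, ?_⟩
      rcases hrel with e | e
      · exact Or.inl ⟨e ▸ hle hu, hu1⟩
      · exact Or.inr ⟨e ▸ hle hu, hu1⟩
    have hpiece : ∀ r, (piece r).ncard ≤ wt r := by
      intro r
      have h1 : ∀ H : Subgroup G, ((H : Set G) \ {1}).ncard = Nat.card H - 1 := fun H => by
        rw [Set.ncard_sdiff_singleton_of_mem (show (1 : G) ∈ (H : Set G) from one_mem H),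
          ← Nat.card_coe_set_eq]
        rfl
      simp only [wt, m]
      split_ifs with e
      · simp only [piece, e, Set.union_self, h1]; exact le_rfl
      · refine (Set.ncard_union_le _ _).trans ?_
        rw [h1, h1, card_cj]; omega
    refine (Set.ncard_le_ncard hsub).trans ((Set.ncard_union_le _ _).trans ?_)
    rw [Set.ncard_singleton]
    refine Nat.add_le_add_left (le_trans (Finset.set_ncard_biUnion_le R piece) ?_) 1
    exact Finset.sum_le_sum fun r _ => hpiece r
  have hlt : Nat.card G < 9 * (1 + ∑ r ∈ R, wt r) :=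
    lt_of_lt_of_le (card_lt_invSet hs.sc (isConj_inv hs.noncomm hs.sc)) (Nat.mul_le_mul_left 9 hcount)
  -- basic facts on the members
  have hm1 : ∀ r ∈ R, 4 ≤ m r := fun r hr => by
    have := (hRmem r hr).1.card_mod hs.sc
    have h1 : Nat.card r ≠ 1 := fun e => (hRmem r hr).2.1 (Subgroup.card_eq_one.mp e)
    have := Nat.card_pos (α := r)
    simp only [m]; omega
  have hdvd : ∀ r, m r ∣ Nat.card G := fun r => Subgroup.card_subgroup_dvd_card r
  have hidx : ∀ r ∈ R, 7 * (3 * m r) ≤ Nat.card G := by
    intro r hr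
    have h7 := hs.seven_le_index hbig
      (hs.normalizer_ne_top (hRmem r hr).1 (hRmem r hr).2.1)
    have h1 := Subgroup.card_mul_index (Subgroup.normalizer (r : Set G))
    rcases (hs.normalizer_max (hRmem r hr)).2 with e | e <;> rw [e] at h1 <;>
      simp only [m] <;> nlinarith [Nat.card_pos (α := r)]
  -- odd parts are coprime
  have hodd : ∀ p, p.Prime → p ≠ 2 → ∀ r ∈ R, ∀ r' ∈ R, p ∣ m r → p ∣ m r' → r = r' := by
    intro p hp hp2 r hr r' hr' hd hd'
    haveI : Fact p.Prime := ⟨hp⟩
    have hfull : ∀ M, IsMax x M → p ∣ Nat.card M → ∃ P : Sylow p G, (P : Subgroup G) = part p M := by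
      intro M hM hd
      obtain ⟨P, hP⟩ := (isPGroup_part p M).exists_le_sylow
      refine ⟨P, le_antisymm ?_ hP⟩
      haveI : Group.IsNilpotent (P : Subgroup G) := P.isPGroup'.isNilpotent
      by_contra hne
      have hlt : (part p M).subgroupOf P < ⊤ := lt_top_iff_ne_top.mpr fun e =>
        hne (Subgroup.subgroupOf_eq_top.mp e)
      obtain ⟨a, ha, han⟩ := SetLike.exists_of_lt (Group.normalizerCondition_of_isNilpotent _ hlt)
      apply han
      set T := (P : Subgroup G) ⊓ Subgroup.normalizer (part p M : Set G)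
      have haT : (a : G) ∈ T := by
        refine Subgroup.mem_inf.mpr ⟨a.2, ?_⟩
        rw [Subgroup.mem_normalizer_iff]
        have h1 := Subgroup.mem_normalizer_iff.mp ha
        intro z
        constructor
        · intro hz; exact (h1 ⟨z, hP hz⟩).mp hz
        · intro hz
          have hzP : z ∈ (P : Subgroup G) := by
            have := mul_mem (mul_mem (inv_mem a.2) (hP hz)) a.2
            simpa [mul_assoc] using this
          exact (h1 ⟨z, hzP⟩).mpr hz
      have hle : part p M ≤ T := le_inf hP Subgroup.le_normalizer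
      have hTe : part p M = T := by
        refine Subgroup.eq_of_le_of_card_ge hle ?_
        obtain ⟨k, hk⟩ := IsPGroup.iff_card.mp (P.isPGroup'.to_le (inf_le_left : T ≤ P))
        have hdv := Subgroup.card_dvd_of_le (inf_le_right : T ≤ Subgroup.normalizer (part p M : Set G))
        rw [hk, hs.normalizer_part p hM hd] at hdv
        rw [hk, card_part]
        refine Nat.pow_le_pow_right hp.pos
          ((Nat.Prime.pow_dvd_iff_le_factorization hp Nat.card_pos.ne').mp ?_)
        have hp3 : p ≠ 3 := fun e => hM.1.2 (e ▸ hd)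
        have h6 : p ^ k ∣ 6 * Nat.card M := by
          rcases (hs.normalizer_max hM).2 with e | e <;> rw [e] at hdv
          · exact hdv.trans ⟨2, by ring⟩
          · exact hdv
        refine (Nat.Coprime.pow_left k ?_).dvd_of_dvd_mul_left h6
        rw [show (6 : ℕ) = 2 * 3 from rfl]
        exact ((Nat.coprime_primes hp Nat.prime_two).mpr hp2).mul_right
          ((Nat.coprime_primes hp Nat.prime_three).mpr hp3)
      exact Subgroup.mem_subgroupOf.mpr (hTe ▸ haT)
    obtain ⟨P, hP⟩ := hfull r (hRmem r hr) hd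
    obtain ⟨P', hP'⟩ := hfull r' (hRmem r' hr') hd'
    obtain ⟨g, hg⟩ := MulAction.exists_smul_eq G P P'
    refine hRd r hr r' hr' (hs.related ht (hRmem r hr) (hRmem r' hr') hd hd' (g := g) ?_)
    rw [← hP', ← hP, ← hg]
    rfl
  -- pieces in a fixed Sylow 2-subgroup
  haveI : Fact (Nat.Prime 2) := ⟨Nat.prime_two⟩
  let Re := R.filter fun r => 2 ∣ m r
  obtain ⟨P⟩ := (inferInstance : Nonempty (Sylow 2 G))
  have hput : ∀ r, ∃ g : G, r ∈ Re → cj g (part 2 r) ≤ (P : Subgroup G) ∧
      Piece (P : Subgroup G) (cj g (part 2 r)) (g * x * g⁻¹) := by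
    intro r
    by_cases hr : r ∈ Re
    · obtain ⟨hrR, hr2⟩ := Finset.mem_filter.mp hr
      obtain ⟨P₀, hP₀⟩ := (isPGroup_part 2 r).exists_le_sylow
      obtain ⟨g, hg⟩ := MulAction.exists_smul_eq G P₀ P
      have hPc : cj g (P₀ : Subgroup G) = P := by rw [← hg]; rfl
      refine ⟨g, fun _ => ?_⟩
      have := (part_two_dvd hs (hRmem r hrR) P₀ hP₀ hr2).conj g
      rw [hPc] at this
      exact ⟨this.le, this⟩
    · exact ⟨1, fun h => absurd h hr⟩
  choose gg hgg using hput
  let D : Subgroup G → Subgroup G := fun r => cj (gg r) (part 2 r)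
  have hDrel : ∀ r ∈ Re, ∀ r' ∈ Re, ∀ k : G, cj k (D r) = D r' → r = r' := by
    intro r hr r' hr' k hk
    obtain ⟨hrR, hr2⟩ := Finset.mem_filter.mp hr
    obtain ⟨hrR', hr2'⟩ := Finset.mem_filter.mp hr'
    refine hRd r hrR r' hrR' (hs.related ht (hRmem r hrR) (hRmem r' hrR') hr2 hr2'
      (g := (gg r')⁻¹ * k * gg r) ?_)
    have := congrArg (cj (gg r')⁻¹) hk
    simp only [D, cj_cj, inv_mul_cancel, cj_one] at this
    rw [mul_assoc]
    exact this.symm
  have hDinj : ∀ r ∈ Re, ∀ r' ∈ Re, D r = D r' → r = r' := fun r hr r' hr' e =>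
    hDrel r hr r' hr' 1 (by rw [cj_one, e])
  by_cases hmany : 2 ≤ Re.card
  · -- several classes of even order
    have hD4 : ∀ r ∈ Re, Nat.card (D r) = 4 := by
      intro r hr
      obtain ⟨r', hr', hne⟩ := Finset.exists_mem_ne hmany r
      refine le_antisymm ?_ (hgg r hr).2.one_lt
      by_contra hgt
      exact hne (hDinj r hr r' hr' ((hgg r hr).2.eq_of_big (hgg r' hr').2 (by simp only [D] at hgt ⊢; omega))).symm
    have hS := card_small_le_three (P := (P : Subgroup G)) (Re.image D) (fun V hV => by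
        obtain ⟨r, hr, rfl⟩ := Finset.mem_image.mp hV
        exact ⟨⟨_, (hgg r hr).2⟩, hD4 r hr⟩) (fun V hV W hW p hp e => by
        obtain ⟨r, hr, rfl⟩ := Finset.mem_image.mp hV
        obtain ⟨r', hr', rfl⟩ := Finset.mem_image.mp hW
        rw [hDrel r hr r' hr' p e])
    have hcardS : (Re.image D).card = Re.card := Finset.card_image_of_injOn hDinj
    rw [hcardS] at hS
    obtain ⟨hle3, hextra⟩ := hS
    have hextra' : ∀ r ∈ Re, 8 ∣ Nat.card (P : Subgroup G) ∧ cj t r = r := by
      intro r hr
      obtain ⟨h8, hne⟩ := hextra hmany (D r) (Finset.mem_image_of_mem D hr)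
      refine ⟨h8, ?_⟩
      obtain ⟨hrR, hr2⟩ := Finset.mem_filter.mp hr
      rcases (hs.normalizer_max (hRmem r hrR)).2 with e | e
      swap
      · exact hs.six_fixed ht (hRmem r hrR) e
      exfalso
      have hH := (hgg r hr).2.half hne
      have h2 := hH.two
      rw [hD4 r hr] at h2
      have hd : (P : Subgroup G) ⊓ Subgroup.normalizer (D r : Set G) ≤
          Subgroup.normalizer (D r : Set G) := inf_le_right
      have h3 := Subgroup.card_dvd_of_le hd
      have h4 : Nat.card (Subgroup.normalizer (D r : Set G)) =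
          Nat.card (Subgroup.normalizer (part 2 r : Set G)) := by
        have : Subgroup.normalizer (D r : Set G) =
            cj (gg r) (Subgroup.normalizer (part 2 r : Set G)) := by
          ext a; rw [mem_normalizer_cj, mem_cj]
        rw [this, card_cj]
      rw [h2, h4, hs.normalizer_part 2 (hRmem r hrR) hr2, e] at h3
      have h5 : 8 ∣ Nat.card r := (Nat.Coprime.dvd_of_dvd_mul_left (by norm_num) h3)
      have hp := hD4 r hr
      simp only [D, card_cj, card_part] at hp
      have h6 : 2 ^ ((Nat.card r).factorization 2 + 1) ∣ Nat.card r := by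
        rw [pow_succ, hp]; exact h5
      exact Nat.pow_succ_factorization_not_dvd Nat.card_pos.ne' Nat.prime_two h6
    -- odd parts
    let o : Subgroup G → ℕ := fun r => if r ∈ Re then m r / 4 else m r
    have hm4 : ∀ r ∈ Re, m r = 4 * o r ∧ ¬ 2 ∣ o r := by
      intro r hr
      have hp := hD4 r hr
      simp only [D, card_cj, card_part] at hp
      have hd : 2 ^ (Nat.card r).factorization 2 ∣ Nat.card r := Nat.ordProj_dvd _ _
      rw [hp] at hd
      simp only [o, if_pos hr, m]
      refine ⟨(Nat.mul_div_cancel' hd).symm, fun h2 => ?_⟩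
      have h6 : 2 ^ ((Nat.card r).factorization 2 + 1) ∣ Nat.card r := by
        rw [pow_succ, hp, ← Nat.mul_div_cancel' hd]
        exact Nat.mul_dvd_mul_left 4 h2
      exact Nat.pow_succ_factorization_not_dvd Nat.card_pos.ne' Nat.prime_two h6
    have ho2 : ∀ r ∈ R, ¬ 2 ∣ o r := fun r hr h2 => by
      by_cases he : r ∈ Re
      · exact (hm4 r he).2 h2
      · simp only [o, if_neg he] at h2
        exact he (Finset.mem_filter.mpr ⟨hr, h2⟩)
    have hodvd : ∀ r, o r ∣ m r := fun r => by
      by_cases he : r ∈ Re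
      · rw [(hm4 r he).1]; exact Dvd.intro_left _ rfl
      · simp only [o, if_neg he]; exact dvd_refl _
    have ho1 : ∀ r ∈ R, 1 ≤ o r := fun r hr => Nat.pos_of_ne_zero fun e => ho2 r hr (e ▸ dvd_zero 2)
    have hcop : Set.Pairwise (R : Set (Subgroup G)) fun a b => Nat.Coprime (o a) (o b) := by
      intro a ha b hb hne
      refine Nat.coprime_of_dvd fun p hp hpa hpb => hne (hodd p hp ?_ a ha b hb
        (hpa.trans (hodvd a)) (hpb.trans (hodvd b)))
      rintro rfl
      exact ho2 a ha hpa
    set W := ∏ r ∈ R, o r with hW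
    have hWdvd : W ∣ Nat.card G := by
      rw [hW]
      exact Finset.prod_dvd_of_isRelPrime (fun a ha b hb hne => Nat.coprime_iff_isRelPrime.mp (hcop ha hb hne)) 
        (fun r _ => (hodvd r).trans (hdvd r))
    have h24 : 24 * W ∣ Nat.card G := by
      have h8 : 8 ∣ Nat.card G := by
        obtain ⟨r, hr⟩ : Re.Nonempty := Finset.card_pos.mp (by omega)
        exact (hextra' r hr).1.trans (Subgroup.card_subgroup_dvd_card _)
      have hW2 : Nat.Coprime 8 W := by
        rw [show (8 : ℕ) = 2 ^ 3 from rfl]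
        refine Nat.Coprime.pow_left 3 (Nat.Coprime.prod_right fun r hr => ?_)
        exact Nat.prime_two.coprime_iff_not_dvd.mpr (ho2 r hr)
      have hW3 : Nat.Coprime 3 W := Nat.Coprime.prod_right fun r hr =>
        Nat.prime_three.coprime_iff_not_dvd.mpr fun h => (hRmem r hr).1.2 (h.trans (hodvd r))
      rw [show (24 : ℕ) = 3 * 8 from rfl, mul_assoc]
      exact Nat.Coprime.mul_dvd_of_dvd_of_dvd (Nat.Coprime.mul_right (by norm_num) hW3)
        (three_dvd_card hs.sc) (Nat.Coprime.mul_dvd_of_dvd_of_dvd hW2 h8 hWdvd)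
    obtain ⟨k, hk⟩ := h24
    set Ro := R.filter fun r => ¬ 2 ∣ m r
    set A := ∏ r ∈ Re, o r
    set Q := ∏ r ∈ Ro, o r
    have hAQ : A * Q = W := Finset.prod_filter_mul_prod_filter_not R _ o
    set S := ∑ r ∈ Re, o r
    have hsum : ∑ r ∈ R, wt r ≤ 4 * S + 2 * (Q - 1) := by
      rw [← Finset.sum_filter_add_sum_filter_not R (fun r => 2 ∣ m r) wt]
      refine Nat.add_le_add ?_ ?_
      · rw [Finset.mul_sum]
        refine Finset.sum_le_sum fun r hr => ?_
        simp only [wt, if_pos (hextra' r hr).2, (hm4 r hr).1]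
        omega
      · calc ∑ r ∈ Ro, wt r ≤ ∑ r ∈ Ro, 2 * (o r - 1) := Finset.sum_le_sum fun r hr => by
              have he : r ∉ Re := fun h => (Finset.mem_filter.mp hr).2 (Finset.mem_filter.mp h).2
              simp only [o, if_neg he]; exact hwt2 r
          _ = 2 * ∑ r ∈ Ro, (o r - 1) := by rw [Finset.mul_sum]
          _ ≤ _ := Nat.mul_le_mul_left 2 (sum_sub_one_le_prod Ro o fun r hr =>
              ho1 r (Finset.mem_filter.mp hr).1)
    have hA1 : 1 ≤ A := Finset.one_le_prod' fun r hr => ho1 r (Finset.mem_filter.mp hr).1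
    have hS2 : S ≤ A + 2 := by
      have h1 := sum_sub_one_le_prod Re o fun r hr => ho1 r (Finset.mem_filter.mp hr).1
      have h2 : S = ∑ r ∈ Re, (o r - 1) + Re.card := by
        rw [Finset.card_eq_sum_ones, ← Finset.sum_add_distrib]
        exact Finset.sum_congr rfl fun r hr => by
          have := ho1 r (Finset.mem_filter.mp hr).1; omega
      omega
    have hk1 : 1 ≤ k := Nat.pos_of_ne_zero fun e => by
      rw [e, mul_zero] at hk; omega
    refine absurd (bound_many (g := Nat.card G) (A := A) (Q := Q) (k := k) (S := S)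
      (by rw [hk, ← hAQ]; ring) hA1 ?_ hk1 hS2 ?_ ?_) (by omega)
    · rcases Ro.eq_empty_or_nonempty with e | ⟨r, hr⟩
      · left; simp [Q, e]
      · right
        have hd : o r ∣ Q := Finset.dvd_prod_of_mem o hr
        have he : r ∉ Re := fun h => (Finset.mem_filter.mp hr).2 (Finset.mem_filter.mp h).2
        have := hm1 r (Finset.mem_filter.mp hr).1
        simp only [o, if_neg he] at hd
        have hQ1 : 1 ≤ Q := Finset.one_le_prod' fun r hr => ho1 r (Finset.mem_filter.mp hr).1
        have := Nat.le_of_dvd (by omega) hd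
        omega
    · intro hQ1
      calc 7 * S = ∑ r ∈ Re, 7 * o r := Finset.mul_sum _ _ _
        _ ≤ ∑ r ∈ Re, A * k := Finset.sum_le_sum fun r hr => by
            have h6 : Nat.card (Subgroup.normalizer (r : Set G)) = 6 * m r := by
              rcases (hs.normalizer_max (hRmem r (Finset.mem_filter.mp hr).1)).2 with e | e
              · exfalso
                obtain ⟨h8, hne⟩ := hextra hmany (D r) (Finset.mem_image_of_mem D hr)
                have := (hgg r hr).2.half hne
                have h2 := this.two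
                rw [hD4 r hr] at h2
                have hrR := (Finset.mem_filter.mp hr).1
                have h3 := Subgroup.card_dvd_of_le (inf_le_right :
                  (P : Subgroup G) ⊓ Subgroup.normalizer (D r : Set G) ≤
                    Subgroup.normalizer (D r : Set G))
                have h4 : Subgroup.normalizer (D r : Set G) =
                    cj (gg r) (Subgroup.normalizer (part 2 r : Set G)) := by
                  ext a; rw [mem_normalizer_cj, mem_cj]
                rw [h2, h4, card_cj,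
                  hs.normalizer_part 2 (hRmem r hrR) (Finset.mem_filter.mp hr).2, e,
                  show Nat.card r = 4 * o r from (hm4 r hr).1] at h3
                have h5 : 2 ∣ o r := by
                  have h5' : 2 * 4 ∣ (3 * o r) * 4 := by
                    rw [show (3 * o r) * 4 = 3 * (4 * o r) by ring]; exact h3
                  exact (Nat.prime_two.dvd_mul.mp (Nat.dvd_of_mul_dvd_mul_right (by norm_num) h5')).resolve_left (by norm_num)
                exact (hm4 r hr).2 h5
              · exact e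
            have h1 := Subgroup.card_mul_index (Subgroup.normalizer (r : Set G))
            have h7 := hs.seven_le_index hbig (hs.normalizer_ne_top
              (hRmem r (Finset.mem_filter.mp hr).1).1 (hRmem r (Finset.mem_filter.mp hr).1).2.1)
            rw [h6, (hm4 r hr).1, hk, ← hAQ, hQ1, mul_one] at h1
            have h8 : o r * (Subgroup.normalizer (r : Set G)).index = A * k := by linarith
            have h9 := Nat.mul_le_mul_left (o r) h7
            omega
        _ = Re.card * (A * k) := by rw [Finset.sum_const, smul_eq_mul]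
        _ ≤ 3 * (A * k) := Nat.mul_le_mul_right _ hle3
    · have := Nat.mul_le_mul_left 9 (Nat.add_le_add_left hsum 1)
      omega
  · -- all orders are pairwise coprime
    have hcop : Set.Pairwise (R : Set (Subgroup G)) fun a b => Nat.Coprime (m a) (m b) := by
      intro a ha b hb hne
      refine Nat.coprime_of_dvd fun p hp hpa hpb => ?_
      rcases eq_or_ne p 2 with rfl | hp2
      · apply hmany
        exact Finset.one_lt_card.mpr ⟨a, Finset.mem_filter.mpr ⟨ha, hpa⟩, b,
          Finset.mem_filter.mpr ⟨hb, hpb⟩, hne⟩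
      · exact hne (hodd p hp hp2 a ha b hb hpa hpb)
    set W := ∏ r ∈ R, m r with hW
    have h3W : 3 * W ∣ Nat.card G := by
      refine Nat.Coprime.mul_dvd_of_dvd_of_dvd ?_ (three_dvd_card hs.sc)
        (Finset.prod_dvd_of_isRelPrime (fun a ha b hb hne => Nat.coprime_iff_isRelPrime.mp (hcop ha hb hne)) (fun r _ => hdvd r))
      exact Nat.Coprime.prod_right fun r hr =>
        Nat.prime_three.coprime_iff_not_dvd.mpr (hRmem r hr).1.2
    obtain ⟨k, hk⟩ := h3W
    have hsum : ∑ r ∈ R, wt r ≤ 2 * ∑ r ∈ R, (m r - 1) := by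
      rw [Finset.mul_sum]; exact Finset.sum_le_sum fun r _ => hwt2 r
    rcases R.eq_empty_or_nonempty with rfl | ⟨r₀, hr₀⟩
    · rw [Finset.sum_empty] at hlt; omega
    by_cases hone : R = {r₀}
    · rw [hone, Finset.sum_singleton, Finset.sum_singleton] at hsum
      rw [hone, Finset.sum_singleton] at hlt
      have hWm : W = m r₀ := by rw [hW, hone, Finset.prod_singleton]
      have h7 := hidx r₀ hr₀
      rw [hk, hWm] at h7
      have hk7 : 7 ≤ k := by
        have := hm1 r₀ hr₀
        exact Nat.le_of_mul_le_mul_left (by linarith : (3 * m r₀) * 7 ≤ (3 * m r₀) * k) (by omega)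
      exact bound_one (g := Nat.card G) (m := m r₀) (k := k) (by rw [hk, hWm, mul_assoc])
        (by have := hm1 r₀ hr₀; omega) hk7 (by omega)
    · -- choose a member of order at least seven
      obtain ⟨b, hb, hbne⟩ : ∃ b ∈ R, b ≠ r₀ := by
        by_contra hc; push Not at hc
        exact hone (Finset.eq_singleton_iff_unique_mem.mpr ⟨hr₀, hc⟩)
      obtain ⟨a, ha, ha7, c, hc, hca⟩ : ∃ a ∈ R, 7 ≤ m a ∧ ∃ c ∈ R, c ≠ a := by
        have h0 := (hRmem r₀ hr₀).1.card_mod hs.sc
        have h1 := (hRmem b hb).1.card_mod hs.sc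
        have h0' := hm1 r₀ hr₀
        have h1' := hm1 b hb
        by_cases h : 7 ≤ m r₀
        · exact ⟨r₀, hr₀, h, b, hb, hbne⟩
        · refine ⟨b, hb, ?_, r₀, hr₀, hbne.symm⟩
          by_contra h'
          have hc4 : Nat.Coprime (m r₀) (m b) := hcop hr₀ hb hbne.symm
          rw [show m r₀ = 4 by simp only [m] at *; omega, show m b = 4 by simp only [m] at *; omega] at hc4
          norm_num at hc4
      set R' := R.erase a
      set Q := ∏ r ∈ R', m r
      have hWaQ : m a * Q = W := Finset.mul_prod_erase R m ha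
      have hQ4 : 4 ≤ Q := by
        have hd : m c ∣ Q := Finset.dvd_prod_of_mem m (Finset.mem_erase.mpr ⟨hca, hc⟩)
        have h1 : 1 ≤ Q := Finset.one_le_prod' fun r hr => by
          have := hm1 r (Finset.mem_of_mem_erase hr); omega
        have := Nat.le_of_dvd (by omega) hd
        have := hm1 c hc
        omega
      have hQ3 : Q % 3 = 1 := by
        rw [Finset.prod_nat_mod, Finset.prod_eq_one (fun r hr => (hRmem r (Finset.mem_of_mem_erase hr)).1.card_mod hs.sc), Nat.one_mod]
      have hQk : 7 ≤ Q * k := by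
        have h7 := hidx a ha
        rw [hk, ← hWaQ] at h7
        exact Nat.le_of_mul_le_mul_left (by linarith : (3 * m a) * 7 ≤ (3 * m a) * (Q * k)) (by omega)
      have hs' : ∑ r ∈ R, (m r - 1) ≤ (m a - 1) + (Q - 1) := by
        rw [← Finset.add_sum_erase R _ ha]
        exact Nat.add_le_add_left (sum_sub_one_le_prod R' m fun r hr => by
          have := hm1 r (Finset.mem_of_mem_erase hr); omega) _
      refine absurd (bound_two (g := Nat.card G) (a := m a) (Q := Q) (k := k)
        (by rw [hk, ← hWaQ]; ring) ha7 ((hRmem a ha).1.card_mod hs.sc) hQ3 hQ4 hQk (by omega))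
        (by omega)

theorem simple_aux : ∀ (n : ℕ) (G : Type u) [Group G] [Finite G] [IsSimpleGroup G] (x : G),
    Nat.card G = n → ¬ IsMulCommutative G → SC x → Nat.card G = 60 ∨ Nat.card G = 168 := by
  intro n
  induction n using Nat.strong_induction_on with
  | _ n ih =>
  intro G _ _ _ x hn hc h
  have hsmall : ∀ H : Subgroup G, H ≠ ⊤ → x ∈ H → Shape H := fun H hH hx =>
    shape (h.subgroup hx) (fun K _ _ _ y hK hKc hy => by
      have hlt : Nat.card H < Nat.card G :=
        lt_of_le_of_ne (Subgroup.card_le_card_group H) (fun e => hH (Subgroup.eq_top_of_card_eq H e))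
      exact ih (Nat.card K) (by omega) K y rfl hKc hy)
  have hs : Setup x := ⟨h, inferInstance, hc, hsmall⟩
  have hlt := hs.card_lt
  have h9 := not_nine_dvd h
  rcases Cfsg.Agent.S0496.result hc (by omega) with e | e | e | e | e | e
  · exact Or.inl e
  · exact Or.inr e
  all_goals first
    | omega
    | exact absurd (by rw [e]; norm_num) h9

theorem simple_card {G : Type u} [Group G] [Finite G] [IsSimpleGroup G] {x : G}
    (hc : ¬ IsMulCommutative G) (h : SC x) : Nat.card G = 60 ∨ Nat.card G = 168 :=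
  simple_aux _ G x rfl hc h

theorem shape_of_selfCent {G : Type u} [Group G] [Finite G] {x : G} (h : SC x) : Shape G :=
  shape h (fun K _ _ _ y _ hc hy => simple_card hc hy)

end CfsgLib.SCThree
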