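import Cfsg.Agent.Lib.Groups.SelfCentPrime
import Cfsg.Agent.Lib.Fpf.SymThreeGroup

/-!
Elements of order three with centralizer of order three: elementary facts.
-/

set_option autoImplicit false
set_option linter.unusedVariables false

namespace CfsgLib.SCThree

open CfsgLib.SelfCent

variable {G : Type*} [Group G] [Finite G] {x : G}

/-- The standing hypothesis. -/
abbrev SC (x : G) : Prop := IsSelfCent 3 x

theorem SC.pow_three (h : SC x) : x * x * x = 1 := by
  have := pow_orderOf_eq_one x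
  rw [h.2.1, pow_succ, pow_two] at this
  exact this

theorem SC.inv_eq (h : SC x) : x⁻¹ = x * x := inv_eq_of_mul_eq_one_left h.pow_three

theorem mem_zpowers_cases (h : SC x) {y : G} (hy : y ∈ Subgroup.zpowers x) :
    y = 1 ∨ y = x ∨ y = x⁻¹ := by
  rw [← mem_powers_iff_mem_zpowers, Submonoid.mem_powers_iff] at hy
  obtain ⟨n, rfl⟩ := hy
  rw [← pow_mod_orderOf, h.2.1]
  have : n % 3 < 3 := Nat.mod_lt _ (by norm_num)
  interval_cases n % 3
  · exact Or.inl (pow_zero x)
  · exact Or.inr (Or.inl (pow_one x))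
  · exact Or.inr (Or.inr (by rw [pow_two, h.inv_eq]))

theorem SC.of_orderOf (h : SC x) {y : G} (hy : orderOf y = 3) : SC y := by
  obtain ⟨g, hg⟩ := card_P_mem_conj h (H := Subgroup.zpowers y) (by rw [Nat.card_zpowers, hy])
  refine ⟨h.1, hy, le_antisymm ?_ ?_⟩
  · intro z hz
    rw [Subgroup.mem_centralizer_singleton_iff] at hz
    have hyx : g * x * g⁻¹ ∈ Subgroup.zpowers y := hg ▸ ⟨x, Subgroup.mem_zpowers x, rfl⟩
    obtain ⟨k, hk⟩ := Subgroup.mem_zpowers_iff.mp hyx
    have hzc : z * (g * x * g⁻¹) = g * x * g⁻¹ * z := by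
      rw [← hk]; exact ((show Commute z y from hz).zpow_right k).eq
    have h1 : g⁻¹ * z * g ∈ Subgroup.zpowers x := by
      apply comm_mem_zpowers h
      calc g⁻¹ * z * g * x = g⁻¹ * (z * (g * x * g⁻¹)) * g := by group
        _ = g⁻¹ * (g * x * g⁻¹ * z) * g := by rw [hzc]
        _ = _ := by group
    rw [← hg]
    exact ⟨g⁻¹ * z * g, h1, by simp [mul_assoc]⟩
  · exact Subgroup.zpowers_le.mpr (Subgroup.mem_centralizer_singleton_iff.mpr rfl)

theorem three_dvd_card (h : SC x) : 3 ∣ Nat.card G := h.2.1 ▸ orderOf_dvd_natCard x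

theorem not_nine_dvd (h : SC x) : ¬ 9 ∣ Nat.card G := by
  intro h9
  haveI : Fact (Nat.Prime 3) := ⟨Nat.prime_three⟩
  obtain ⟨P, hP⟩ := exists_sylow h
  have h1 : Nat.card (P : Subgroup G) = 3 := by rw [hP, h.card_P]
  rw [P.card_eq_multiplicity] at h1
  have h2 : 3 ^ 2 ∣ 3 ^ (Nat.card G).factorization 3 :=
    pow_dvd_pow _ ((Nat.Prime.pow_dvd_iff_le_factorization Nat.prime_three Nat.card_pos.ne').mp h9)
  rw [h1] at h2; norm_num at h2

/-- An element centralizing a nontrivial `3'`-element has order prime to three. -/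
theorem not_three_dvd_of_commute (h : SC x) {c z : G} (hc : c ≠ 1) (hc3 : ¬ 3 ∣ orderOf c)
    (hzc : z * c = c * z) : ¬ 3 ∣ orderOf z := by
  intro hd
  obtain ⟨k, hk⟩ := hd
  have hk0 : k ≠ 0 := by
    rintro rfl; exact orderOf_pos z |>.ne' hk
  have hw : orderOf (z ^ k) = 3 := by
    rw [orderOf_pow' z hk0, hk, Nat.gcd_mul_left_left, Nat.mul_div_cancel _ (Nat.pos_of_ne_zero hk0)]
  have hcw : c * z ^ k = z ^ k * c := (show Commute c z from hzc.symm).pow_right k
  have := comm_mem_zpowers (h.of_orderOf hw) hcw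
  rcases mem_zpowers_cases (h.of_orderOf hw) this with e | e | e
  · exact hc e
  · exact hc3 (by rw [e, hw])
  · exact hc3 (by rw [e, orderOf_inv, hw])

/-- Subgroups containing `x` inherit the hypothesis. -/
theorem SC.subgroup (h : SC x) {H : Subgroup G} (hx : x ∈ H) : SC (⟨x, hx⟩ : H) := by
  refine ⟨h.1, by rw [← h.2.1, ← orderOf_injective H.subtype H.subtype_injective ⟨x, hx⟩]; rfl, ?_⟩
  ext z
  rw [Subgroup.mem_centralizer_singleton_iff]
  constructor
  · intro hz
    obtain ⟨k, hk⟩ := Subgroup.mem_zpowers_iff.mp (comm_mem_zpowers h (congrArg Subtype.val hz))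
    exact Subgroup.mem_zpowers_iff.mpr ⟨k, Subtype.ext hk⟩
  · intro hz
    obtain ⟨k, rfl⟩ := Subgroup.mem_zpowers_iff.mp hz
    exact ((Commute.refl _).zpow_left k).eq

theorem SC.quotient (h : SC x) (S : Subgroup G) [S.Normal] (hd : ¬ 3 ∣ Nat.card S) :
    SC (QuotientGroup.mk x : G ⧸ S) :=
  ⟨h.1, orderOf_quotient h S hd, centralizer_quotient h S hd⟩

/-- An `x`-invariant subgroup of order prime to three. -/
def Inv (x : G) (M : Subgroup G) : Prop :=
  x ∈ Subgroup.normalizer (M : Set G) ∧ ¬ 3 ∣ Nat.card M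

theorem Inv.conj_mem {M : Subgroup G} (hM : Inv x M) {m : G} (hm : m ∈ M) : x * m * x⁻¹ ∈ M :=
  (Subgroup.mem_normalizer_iff.mp hM.1 m).mp hm

theorem Inv.not_dvd_orderOf {M : Subgroup G} (hM : Inv x M) {m : G} (hm : m ∈ M) :
    ¬ 3 ∣ orderOf m := fun hd => hM.2 (hd.trans (Subgroup.orderOf_dvd_natCard M hm))

theorem Inv.eq_one (h : SC x) {M : Subgroup G} (hM : Inv x M) {m : G} (hm : m ∈ M)
    (hc : m * x = x * m) : m = 1 := by
  rcases mem_zpowers_cases h (comm_mem_zpowers h hc) with e | e | e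
  · exact e
  · exact absurd (by rw [e, h.2.1]) (hM.not_dvd_orderOf hm)
  · exact absurd (by rw [e, orderOf_inv, h.2.1]) (hM.not_dvd_orderOf hm)

/-- Conjugation by `x` on an invariant subgroup. -/
noncomputable def invAut {M : Subgroup G} (hM : Inv x M) : MulAut M where
  toFun m := ⟨x * m * x⁻¹, hM.conj_mem m.2⟩
  invFun m := ⟨x⁻¹ * m * x, by
    simpa using (Subgroup.mem_normalizer_iff.mp (inv_mem hM.1) (m : G)).mp m.2⟩
  left_inv m := Subtype.ext (by simp [mul_assoc])
  right_inv m := Subtype.ext (by simp [mul_assoc])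
  map_mul' a b := Subtype.ext (by simp [mul_assoc])

theorem Inv.three_steps (h : SC x) (m : G) : x * (x * (x * m * x⁻¹) * x⁻¹) * x⁻¹ = m := by
  calc x * (x * (x * m * x⁻¹) * x⁻¹) * x⁻¹ = (x * x * x) * m * (x * x * x)⁻¹ := by group
    _ = m := by rw [h.pow_three]; group

theorem Inv.identity (h : SC x) {M : Subgroup G} (hM : Inv x M) {m : G} (hm : m ∈ M) :
    m * (x * m * x⁻¹) * (x * (x * m * x⁻¹) * x⁻¹) = 1 := by
  have hfpf : ∀ g : M, invAut hM g = g → g = 1 := fun g hg => Subtype.ext (hM.eq_one h g.2 (by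
    have : x * (g : G) * x⁻¹ = g := congrArg Subtype.val hg
    exact (mul_inv_eq_iff_eq_mul.mp this).symm))
  have h3 : ∀ g : M, invAut hM (invAut hM (invAut hM g)) = g := fun g =>
    Subtype.ext (Inv.three_steps h (g : G))
  exact congrArg Subtype.val
    (CfsgLib.SymThree.mul_map_mul_map_eq_one (invAut hM) h3 hfpf ⟨m, hm⟩)

theorem Inv.commute (h : SC x) {M : Subgroup G} (hM : Inv x M) {m : G} (hm : m ∈ M) :
    m * (x * m * x⁻¹) = (x * m * x⁻¹) * m := by
  have h1 := hM.identity h hm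
  have h2 := hM.identity h (inv_mem hm)
  have e : x * (x * m⁻¹ * x⁻¹) * x⁻¹ = (x * (x * m * x⁻¹) * x⁻¹)⁻¹ := by simp [mul_assoc]
  have e' : x * m⁻¹ * x⁻¹ = (x * m * x⁻¹)⁻¹ := by group
  rw [e, e'] at h2
  set a := x * m * x⁻¹
  set b := x * a * x⁻¹
  have e1 : (b * a * m)⁻¹ = 1 := by rw [← h2]; group
  rw [inv_eq_one] at e1
  have h1' : b * (m * a) = 1 := mul_eq_one_comm.mp h1
  rw [mul_assoc] at e1
  exact mul_left_cancel (h1'.trans e1.symm)

theorem Inv.isNilpotent (h : SC x) {M : Subgroup G} (hM : Inv x M) : Group.IsNilpotent M :=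
  CfsgLib.SymThree.isNilpotent_of_fpf_three (invAut hM)
    (fun g => Subtype.ext (Inv.three_steps h (g : G)))
    (fun g hg => Subtype.ext (hM.eq_one h g.2 (by
      have : x * (g : G) * x⁻¹ = g := congrArg Subtype.val hg
      exact (mul_inv_eq_iff_eq_mul.mp this).symm)))

theorem Inv.card_mod (h : SC x) {M : Subgroup G} (hM : Inv x M) : Nat.card M % 3 = 1 := by
  haveI : Fact (Nat.Prime 3) := ⟨Nat.prime_three⟩
  let φ : Function.End M := fun m => invAut hM m
  have h1 : φ ^ 3 ^ 1 = 1 := funext fun m => Subtype.ext (Inv.three_steps h (m : G))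
  letI := Fintype.ofFinite M
  classical
  have := Equiv.Perm.card_fixedPoints_modEq h1
  have hfix : Function.fixedPoints φ = {1} := by
    ext m
    constructor
    · intro hm
      have : x * (m : G) * x⁻¹ = m := congrArg Subtype.val hm
      exact Subtype.ext (hM.eq_one h m.2 (mul_inv_eq_iff_eq_mul.mp this).symm)
    · rintro rfl
      exact map_one (invAut hM)
  rw [← Nat.card_eq_fintype_card, ← Nat.card_eq_fintype_card, hfix, Nat.card_coe_set_eq,
    Set.ncard_singleton] at this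
  exact this

/-- Two elements of order three whose product has order three. -/
theorem triangle_commute {y z : G} (hz : z * z * z = 1) (hy : y * y * y = 1)
    (hyz : (y * z) * (y * z) * (y * z) = 1) :
    (z * (y * z⁻¹) * z⁻¹) * (z⁻¹ * (y * z⁻¹) * z) = (z⁻¹ * (y * z⁻¹) * z) * (z * (y * z⁻¹) * z⁻¹) ∧
    (y * z⁻¹) * (z * (y * z⁻¹) * z⁻¹) * (z⁻¹ * (y * z⁻¹) * z) = 1 := by
  set u := y * z⁻¹ with hu
  have hi : z⁻¹ = z * z := inv_eq_of_mul_eq_one_left hz
  have h1 : u * (z * u * z⁻¹) * (z⁻¹ * u * z) = 1 := by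
    calc u * (z * u * z⁻¹) * (z⁻¹ * u * z) = y * y * (z * z * z)⁻¹ * y := by rw [hu]; group
      _ = 1 := by rw [hz, inv_one, mul_one, hy]
  have h2 : u * (z⁻¹ * u * z) * (z * u * z⁻¹) = 1 := by
    calc u * (z⁻¹ * u * z) * (z * u * z⁻¹)
        = y * (z⁻¹ * z⁻¹) * y * z * y * (z⁻¹ * z⁻¹) := by rw [hu]; group
      _ = y * z * y * z * y * z := by
          have : z⁻¹ * z⁻¹ = z := by
            rw [← mul_inv_rev, ← hi, inv_inv]
          rw [this]
      _ = 1 := by rw [← hyz]; group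
  refine ⟨?_, h1⟩
  exact mul_left_cancel (a := u) (((mul_assoc _ _ _).symm.trans (h1.trans h2.symm)).trans (mul_assoc _ _ _))

end CfsgLib.SCThree
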