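import Cfsg.Agent.Lib.SelfCentThree.Basic

/-!
A group of order six with a self-centralizing element of order three is `S₃`.
-/

set_option autoImplicit false
set_option linter.unusedVariables false

namespace CfsgLib.SCThree

open CfsgLib.SelfCent

universe u

theorem six_iso {Q : Type u} [Group Q] [Finite Q] {y : Q} (h : SC y) (h6 : Nat.card Q = 6) :
    Nonempty (Q ≃* Equiv.Perm (Fin 3)) := by
  haveI : Fact (Nat.Prime 2) := ⟨Nat.prime_two⟩
  obtain ⟨s, hs⟩ := exists_prime_orderOf_dvd_card' (G := Q) 2 (by rw [h6]; norm_num)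
  set H := Subgroup.zpowers s with hH
  have hHc : Nat.card H = 2 := by rw [hH, Nat.card_zpowers, hs]
  have hidx : Nat.card (Q ⧸ H) = 3 := by
    have := H.index_mul_card
    rw [hHc, h6] at this
    change H.index = 3
    omega
  let f : Q →* Equiv.Perm (Q ⧸ H) := MulAction.toPermHom Q (Q ⧸ H)
  have hker : f.ker = ⊥ := by
    have hk : f.ker = H.normalCore := (Subgroup.normalCore_eq_ker H).symm
    rw [Subgroup.eq_bot_iff_forall]
    intro g hg
    by_contra hg1
    have hle : f.ker ≤ H := hk ▸ H.normalCore_le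
    have hcases : ∀ z ∈ H, z = 1 ∨ z = s := by
      intro z hz
      rw [hH, ← mem_powers_iff_mem_zpowers, Submonoid.mem_powers_iff] at hz
      obtain ⟨n, rfl⟩ := hz
      rw [← pow_mod_orderOf, hs]
      rcases Nat.mod_two_eq_zero_or_one n with e | e <;> simp [e]
    have hgs : g = s := (hcases g (hle hg)).resolve_left hg1
    subst hgs
    have hmem : y * g * y⁻¹ ∈ f.ker := (MonoidHom.normal_ker f).conj_mem g hg y
    rcases hcases _ (hle hmem) with e | e
    · exact hg1 (conj_eq_one_iff.mp e)
    · have hy : g ∈ Subgroup.zpowers y :=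
        comm_mem_zpowers h (mul_inv_eq_iff_eq_mul.mp e).symm
      rcases mem_zpowers_cases h hy with e' | e' | e'
      · exact hg1 e'
      · rw [e', h.2.1] at hs; omega
      · rw [e', orderOf_inv, h.2.1] at hs; omega
  have hinj : Function.Injective f := (MonoidHom.ker_eq_bot_iff f).mp hker
  haveI : Fintype (Q ⧸ H) := Fintype.ofFinite _
  have e3 : (Q ⧸ H) ≃ Fin 3 := Finite.equivFinOfCardEq hidx
  have hcard : Nat.card Q = Nat.card (Equiv.Perm (Q ⧸ H)) := by
    rw [h6, Nat.card_perm, hidx]; rfl
  exact ⟨(MulEquiv.ofBijective f ((Nat.bijective_iff_injective_and_card f).mpr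
    ⟨hinj, hcard⟩)).trans e3.permCongrHom⟩

end CfsgLib.SCThree
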