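import Cfsg.Agent.Lib.SelfCentThree.Basic
import Cfsg.Agent.Lib.Char.Counting
import Cfsg.Agent.Lib.Char.Galois

/-!
The counting inequality: more than a ninth of the group lies in invariant `3'`-subgroups.
-/

set_option autoImplicit false
set_option linter.unusedVariables false

open scoped BigOperators ComplexConjugate

namespace CfsgLib.SCThree

open Cfsg CfsgLib.SelfCent CfsgLib.Char

universe u

variable {G : Type u} [Group G] {x : G}

theorem exists_int_value [Finite G] (h : SC x) (hinv : IsConj x x⁻¹) (χ : IrrCharacter G) :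
    ∃ a : ℤ, (χ : G → ℂ) x = a := by
  have : Fintype G := Fintype.ofFinite G
  have hc := Char.isCharacter_of_isIrr χ.2
  have hfix : ∀ k : ℕ, k.Coprime (Nat.card G) → (χ : G → ℂ) (x ^ k) = (χ : G → ℂ) x := fun k hk => by
    rw [← pow_mod_orderOf, h.2.1]
    have h3 : k % 3 < 3 := Nat.mod_lt _ (by norm_num)
    have h0 : k % 3 ≠ 0 := fun e => by
      have hd := Nat.dvd_gcd (Nat.dvd_of_mod_eq_zero e) (three_dvd_card h)
      rw [hk] at hd
      norm_num at hd
    interval_cases k % 3
    · exact absurd rfl h0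
    · rw [pow_one]
    · rw [pow_two, ← h.inv_eq]
      exact (Char.eq_of_isConj (Char.isClassFunction_of_isCharacter hc) hinv).symm
  obtain ⟨q, hq⟩ := (Char.rat_value_iff hc x).mpr hfix
  obtain ⟨a, ha⟩ := Char.exists_int_of_isIntegral_rat (q := q) (hq ▸ Char.isIntegral_value hc x)
  exact ⟨a, by rw [hq, ha]; simp⟩

theorem sum_cubes_gt {ι : Type*} [Fintype ι] [DecidableEq ι] (a : ι → ℤ) (d : ι → ℕ) (i₀ : ι)
    (hd : ∀ i, 0 < d i) (h0 : a i₀ = 1) (hd0 : d i₀ = 1) (hsq : ∑ i, a i * a i = 3)
    (horth : ∑ i, (d i : ℤ) * a i = 0) :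
    1 < ∑ i, ((a i : ℝ) * a i * a i) / (d i : ℝ) := by
  classical
  let S := Finset.univ.filter fun i => i ≠ i₀ ∧ a i ≠ 0
  have hS : ∀ f : ι → ℤ, (∀ i, a i = 0 → f i = 0) → ∑ i, f i = f i₀ + ∑ i ∈ S, f i := fun f hf => by
    rw [← Finset.add_sum_erase _ _ (Finset.mem_univ i₀)]
    congr 1
    refine (Finset.sum_subset (fun i hi => ?_) fun i hi hiS => hf i ?_).symm
    · simp [S] at hi; simp [hi.1]
    · by_contra hne; exact hiS (by simp at hi; simp [S, hi, hne])
  have h1 := hS (fun i => a i * a i) (fun i hi => by simp [hi])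
  rw [hsq, h0] at h1
  have h2 := hS (fun i => (d i : ℤ) * a i) (fun i hi => by simp [hi])
  rw [horth, h0, hd0] at h2
  have hone : ∀ i ∈ S, 1 ≤ a i * a i := fun i hi => by
    simp [S] at hi
    have := mul_self_pos.mpr hi.2
    omega
  have hcard : (S.card : ℤ) ≤ ∑ i ∈ S, a i * a i := by
    simpa using Finset.card_nsmul_le_sum S _ 1 hone
  have hS2 : S.card ≤ 2 := by omega
  obtain ⟨i, hiS⟩ : S.Nonempty := by
    rw [Finset.nonempty_iff_ne_empty]; intro e; rw [e] at h1; simp at h1
  have hreal : ∑ j, ((a j : ℝ) * a j * a j) / (d j : ℝ) =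
      1 + ∑ j ∈ S, ((a j : ℝ) * a j * a j) / (d j : ℝ) := by
    rw [← Finset.add_sum_erase _ _ (Finset.mem_univ i₀), h0, hd0]
    congr 1
    · norm_num
    refine (Finset.sum_subset (fun i hi => ?_) fun i hi hiS => ?_).symm
    · simp [S] at hi; simp [hi.1]
    · have : a i = 0 := by
        by_contra hne; exact hiS (by simp at hi; simp [S, hi, hne])
      simp [this]
  rw [hreal]
  by_cases h1' : S = {i}
  · rw [h1', Finset.sum_singleton] at h1
    have h2' : a i * a i = 2 := by linarith
    exfalso
    rcases le_or_gt (a i) 1 with hle | hgt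
    · rcases le_or_gt (-1) (a i) with hge | hlt
      · rcases (show a i = -1 ∨ a i = 0 ∨ a i = 1 by omega) with hh | hh | hh <;>
          rw [hh] at h2' <;> norm_num at h2'
      · nlinarith
    · nlinarith
  · obtain ⟨j, hjS, hji⟩ : ∃ j ∈ S, j ≠ i := by
      by_contra hc; push Not at hc
      exact h1' (Finset.eq_singleton_iff_unique_mem.mpr ⟨hiS, hc⟩)
    have hS' : S = {i, j} := (Finset.eq_of_subset_of_card_le
      (Finset.insert_subset hiS (Finset.singleton_subset_iff.mpr hjS))
      (by rw [Finset.card_pair hji.symm]; exact hS2)).symm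
    have hi1 := hone i hiS
    have hj1 := hone j hjS
    rw [hS', Finset.sum_pair hji.symm] at h1 h2 ⊢
    have ha : a i = 1 ∨ a i = -1 := mul_self_eq_one_iff.mp (by linarith)
    have hb : a j = 1 ∨ a j = -1 := mul_self_eq_one_iff.mp (by linarith)
    have hdi := hd i
    have hdj := hd j
    have key : ∀ p q : ℕ, 0 < p → q = p + 1 →
        0 < (1 : ℝ) / (p : ℝ) + (-1 : ℝ) / (q : ℝ) := fun p q hp hq => by
      subst hq
      have h4 : (1 : ℝ) / ((p + 1 : ℕ) : ℝ) < 1 / (p : ℝ) :=
        one_div_lt_one_div_of_lt (by exact_mod_cast hp) (by exact_mod_cast Nat.lt_succ_self p)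
      rw [neg_div]; linarith
    rcases ha with ha | ha <;> rcases hb with hb | hb <;> simp only [ha, hb] at h2 ⊢
    · omega
    · have := key (d i) (d j) hdi (by omega)
      push_cast
      simp only [mul_one, mul_neg, neg_neg] at *
      linarith
    · have := key (d j) (d i) hdj (by omega)
      push_cast
      simp only [mul_one, mul_neg, neg_neg] at *
      linarith
    · push_cast
      simp only [mul_one, mul_neg, neg_neg]
      have e : d i + d j = 1 := by omega
      omega

/-- The union of the invariant subgroups of order prime to three. -/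
def invSet (x : G) : Set G := {u | ∃ M : Subgroup G, Inv x M ∧ u ∈ M}

theorem card_pairs_gt [Finite G] (h : SC x) (hinv : IsConj x x⁻¹) :
    Nat.card G < 9 * Nat.card {p : G × G // IsConj x p.1 ∧ IsConj x p.2 ∧ p.1 * p.2 = x} := by
  classical
  have : Fintype G := Fintype.ofFinite G
  choose a ha using exists_int_value h hinv
  choose d hd hd' using fun χ : IrrCharacter G => Char.exists_nat_degree_irr χ.2
  let χ₀ : IrrCharacter G := ⟨fun _ => 1, Char.isIrrCharacter_one⟩
  have h0 : a χ₀ = 1 := by
    have : ((χ₀ : G → ℂ) x) = 1 := rfl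
    rw [ha] at this; exact_mod_cast this
  have hd0 : d χ₀ = 1 := by
    have : ((χ₀ : G → ℂ) 1) = 1 := rfl
    rw [hd'] at this; exact_mod_cast this
  have hc3 : Nat.card (Subgroup.centralizer ({x} : Set G)) = 3 := by rw [h.2.2, h.card_P]
  have hsq : ∑ χ, a χ * a χ = 3 := by
    have e := Char.column_orthogonality x x
    simp only [ha, map_intCast, IsConj.refl, if_true, hc3] at e
    exact_mod_cast e
  have horth : ∑ χ, (d χ : ℤ) * a χ = 0 := by
    have e := Char.column_orthogonality (1 : G) x
    rw [if_neg (fun hc : IsConj (1 : G) x => h.ne_one (isConj_one_right.mp hc))] at e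
    simp only [ha, hd', map_intCast] at e
    exact_mod_cast e
  have hgt := sum_cubes_gt a d χ₀ hd h0 hd0 hsq horth
  have e := Char.class_mult (G := G) x x x
  simp only [ha, hd', map_intCast] at e
  have hidx : 3 * (Subgroup.centralizer ({x} : Set G)).index = Nat.card G := by
    rw [← hc3, Subgroup.card_mul_index]
  set N := Nat.card {p : G × G // IsConj x p.1 ∧ IsConj x p.2 ∧ p.1 * p.2 = x}
  have eR : (N : ℝ) = ((Subgroup.centralizer ({x} : Set G)).index : ℝ) *
      ((Subgroup.centralizer ({x} : Set G)).index : ℝ) / (Nat.card G : ℝ) *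
      ∑ χ, ((a χ : ℝ) * a χ * a χ) / (d χ : ℝ) := by
    apply Complex.ofReal_injective
    push_cast
    exact e
  have hG : (0 : ℝ) < Nat.card G := by exact_mod_cast Nat.card_pos
  have hi : ((Subgroup.centralizer ({x} : Set G)).index : ℝ) = (Nat.card G : ℝ) / 3 := by
    rw [← hidx]; push_cast; ring
  rw [hi] at eR
  have : (Nat.card G : ℝ) < 9 * (N : ℝ) := by
    have e' : (9 : ℝ) * N = (Nat.card G : ℝ) * ∑ χ, ((a χ : ℝ) * a χ * a χ) / (d χ : ℝ) := by
      rw [eR]; field_simp; ring
    rw [e']
    exact lt_mul_of_one_lt_right hG hgt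
  exact_mod_cast this

/-- More than a ninth of the group lies in invariant subgroups of order prime to three. -/
theorem card_lt_invSet [Finite G] (h : SC x) (hinv : IsConj x x⁻¹) :
    Nat.card G < 9 * (invSet x).ncard := by
  classical
  refine lt_of_lt_of_le (card_pairs_gt h hinv) (Nat.mul_le_mul_left 9 ?_)
  rw [← Nat.card_coe_set_eq]
  have hord : ∀ y : G, IsConj x y → y * y * y = 1 := fun y hy => by
    obtain ⟨g, rfl⟩ := isConj_iff.mp hy
    calc g * x * g⁻¹ * (g * x * g⁻¹) * (g * x * g⁻¹) = g * (x * x * x) * g⁻¹ := by group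
      _ = 1 := by rw [h.pow_three]; group
  refine Nat.card_le_card_of_injective
    (fun p => ⟨p.1.1⁻¹ * x⁻¹, ?_⟩) (fun p q e => ?_)
  · obtain ⟨⟨p1, p2⟩, hp1, hp2, hpe⟩ := p
    simp only
    set y := p1⁻¹ with hy
    have hy3 : y * y * y = 1 := by
      have := congrArg (·⁻¹) (hord p1 hp1)
      simpa [hy, mul_assoc] using this
    have hyx : (y * x) * (y * x) * (y * x) = 1 := by
      have : y * x = p2 := by rw [hy, ← hpe, inv_mul_cancel_left]
      rw [this]; exact hord p2 hp2
    obtain ⟨hvw, hprod⟩ := triangle_commute h.pow_three hy3 hyx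
    set u := y * x⁻¹ with hu
    set v := x * u * x⁻¹ with hv
    set w := x⁻¹ * u * x with hw
    by_cases hu1 : u = 1
    · exact ⟨⊥, ⟨by rw [Subgroup.normalizer_eq_top]; trivial, by simp⟩, by rw [hu1]; exact one_mem _⟩
    have hcu : u = (v * w)⁻¹ := eq_inv_of_mul_eq_one_left (by rwa [← mul_assoc])
    have huv : u * v = v * u := by
      rw [hcu]
      exact ((show Commute v (v * w) from (Commute.refl v).mul_right hvw).inv_right).symm.eq
    have huw : u * w = w * u := by
      rw [hcu]
      exact ((show Commute w (v * w) from (Commute.mul_right hvw.symm (Commute.refl w))).inv_right).symm.eq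
    have hxv : x * v * x⁻¹ = w := by
      rw [hv, hw, h.inv_eq]
      calc x * (x * u * (x * x)) * (x * x) = (x * x) * u * x * (x * x * x) := by group
        _ = _ := by rw [h.pow_three, mul_one]
    have hxw : x * w * x⁻¹ = u := by rw [hw]; group
    let A := Subgroup.closure ({u, v, w} : Set G)
    have hAc : ∀ a ∈ A, ∀ b ∈ A, a * b = b * a := by
      have hc : IsMulCommutative A := Subgroup.isMulCommutative_closure (by
        simp only [Set.mem_insert_iff, Set.mem_singleton_iff]
        rintro a (rfl | rfl | rfl) b (rfl | rfl | rfl) <;>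
          first | rfl | assumption | (symm; assumption))
      intro a ha b hb
      exact congrArg Subtype.val (hc.is_comm.comm ⟨a, ha⟩ ⟨b, hb⟩)
    have huA : u ∈ A := Subgroup.subset_closure (by simp)
    have hvA : v ∈ A := Subgroup.subset_closure (by simp)
    have hwA : w ∈ A := Subgroup.subset_closure (by simp)
    have hxA : x ∈ Subgroup.normalizer (A : Set G) := by
      rw [Subgroup.mem_normalizer_iff_map_conj_eq]
      refine Subgroup.eq_of_le_of_card_ge ?_ (le_of_eq (Nat.card_congr
        (Subgroup.equivMapOfInjective _ _ (MulAut.conj x).injective).toEquiv))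
      show Subgroup.map (MulAut.conj x).toMonoidHom A ≤ A
      rw [MonoidHom.map_closure, Subgroup.closure_le]
      rintro _ ⟨a, ha, rfl⟩
      simp only [Set.mem_insert_iff, Set.mem_singleton_iff] at ha
      simp only [SetLike.mem_coe, MulEquiv.coe_toMonoidHom, MulAut.conj_apply]
      rcases ha with rfl | rfl | rfl
      · exact hvA
      · rw [hxv]; exact hwA
      · rw [hxw]; exact huA
    refine ⟨A, ⟨hxA, fun hd => ?_⟩, huA⟩
    haveI : Fact (Nat.Prime 3) := ⟨Nat.prime_three⟩
    obtain ⟨⟨b, hb⟩, hb3⟩ := exists_prime_orderOf_dvd_card' (G := A) 3 hd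
    rw [← Subgroup.orderOf_coe] at hb3
    change orderOf b = 3 at hb3
    have huz : u ∈ Subgroup.zpowers b :=
      comm_mem_zpowers (h.of_orderOf hb3) (hAc u huA b hb)
    have hbx : x * b * x⁻¹ ∈ Subgroup.zpowers b :=
      comm_mem_zpowers (h.of_orderOf hb3)
        (hAc _ ((Subgroup.mem_normalizer_iff.mp hxA b).mp hb) b hb)
    have hb1 : b ≠ 1 := fun e => by rw [e, orderOf_one] at hb3; norm_num at hb3
    have hcomm : x * b = b * x := by
      rcases mem_zpowers_cases (h.of_orderOf hb3) hbx with e | e | e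
      · exact absurd (conj_eq_one_iff.mp e) hb1
      · exact mul_inv_eq_iff_eq_mul.mp e
      · exfalso
        apply hb1
        have e' : x * b⁻¹ * x⁻¹ = b := by
          rw [show x * b⁻¹ * x⁻¹ = (x * b * x⁻¹)⁻¹ by group, e, inv_inv]
        have e3 : b = b⁻¹ := by
          calc b = x * (x * (x * b * x⁻¹) * x⁻¹) * x⁻¹ := (Inv.three_steps h b).symm
            _ = b⁻¹ := by rw [e, e', e]
        have e4 : b * b = 1 := by
          nth_rw 1 [e3]; exact inv_mul_cancel b
        have := orderOf_dvd_of_pow_eq_one (x := b) (n := 2) (by rw [pow_two]; exact e4)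
        rw [hb3] at this; norm_num at this
    have hbX : b ∈ Subgroup.zpowers x := comm_mem_zpowers h hcomm.symm
    have huX : u ∈ Subgroup.zpowers x := (Subgroup.zpowers_le.mpr hbX) huz
    have huv' : v = u := by
      obtain ⟨k, hk⟩ := Subgroup.mem_zpowers_iff.mp huX
      rw [hv, ← hk]; group
    have huw' : w = u := by
      obtain ⟨k, hk⟩ := Subgroup.mem_zpowers_iff.mp huX
      rw [hw, ← hk]; group
    have hyu : y = u * x := by rw [hu]; group
    rcases mem_zpowers_cases h huX with e | e | e
    · exact hu1 e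
    · -- `y = x⁻¹`, so `y * x = 1`
      have : y * x = 1 := by rw [hyu, e]; exact h.pow_three
      have hp : p2 = 1 := by rw [← this, hy, ← hpe, inv_mul_cancel_left]
      exact h.ne_one (isConj_one_right.mp (hp ▸ hp2).symm)
    · have : y = 1 := by rw [hyu, e, inv_mul_cancel]
      have hp : p1 = 1 := by rwa [hy, inv_eq_one] at this
      exact h.ne_one (isConj_one_right.mp (hp ▸ hp1).symm)
  · have e1 := congrArg Subtype.val e
    simp only at e1
    have e2 : p.1.1 = q.1.1 := inv_injective (mul_right_cancel e1)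
    have e3 : p.1.2 = q.1.2 := by
      have hp := p.2.2.2
      have hq := hp.trans q.2.2.2.symm
      rw [e2] at hq
      exact mul_left_cancel hq
    exact Subtype.ext (Prod.ext e2 e3)

end CfsgLib.SCThree
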