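import Cfsg.Agent.Lib.SelfCentThree.Count
import Cfsg.Agent.Lib.SmallOrder.Basic
import Cfsg.Agent.Lib.SmallOrder.OneSixEightSubgroups

/-!
Invariant subgroups in the simple groups of orders 60 and 168.
-/

set_option autoImplicit false
set_option linter.unusedVariables false

namespace CfsgLib.SCThree

open CfsgLib.SelfCent

universe u

variable {Q : Type u} [Group Q] [Finite Q] {x : Q}

theorem isConj_inv [IsSimpleGroup Q] (hQ : ¬ IsMulCommutative Q) (h : SC x) : IsConj x x⁻¹ := by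
  haveI : Fact (Nat.Prime 3) := ⟨Nat.prime_three⟩
  obtain ⟨P, hP⟩ := exists_sylow h
  have hn := CfsgLib.SmallOrder.not_normalizer_le_centralizer hQ (three_dvd_card h) P
  rw [hP] at hn
  obtain ⟨g, hg, hgc⟩ := SetLike.not_le_iff_exists.mp hn
  rcases mem_zpowers_cases h ((mem_nzr_iff h).mp hg) with e | e | e
  · exact absurd (conj_eq_one_iff.mp e) h.ne_one
  · refine absurd ?_ hgc
    rw [Subgroup.mem_centralizer_iff]
    intro z hz
    obtain ⟨k, rfl⟩ := Subgroup.mem_zpowers_iff.mp hz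
    exact ((show Commute g x from mul_inv_eq_iff_eq_mul.mp e).zpow_right k).eq.symm
  · exact isConj_iff.mpr ⟨g, e⟩

theorem exists_two_element {M : Subgroup Q} (h2 : 2 ∣ Nat.card M) :
    ∃ v ∈ M, v ≠ 1 ∧ v * v = 1 := by
  haveI : Fact (Nat.Prime 2) := ⟨Nat.prime_two⟩
  obtain ⟨⟨v, hv⟩, hv2⟩ := exists_prime_orderOf_dvd_card' (G := M) 2 h2
  rw [← Subgroup.orderOf_coe] at hv2
  change orderOf v = 2 at hv2
  refine ⟨v, hv, fun e => ?_, ?_⟩
  · rw [e, orderOf_one] at hv2; norm_num at hv2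
  · have := pow_orderOf_eq_one v; rwa [hv2, pow_two] at this

theorem exists_even_inv_sixty [IsSimpleGroup Q] (hQ : ¬ IsMulCommutative Q)
    (hc : Nat.card Q = 60) (h : SC x) : ∃ M : Subgroup Q, Inv x M ∧ 2 ∣ Nat.card M := by
  have hlt := card_lt_invSet h (isConj_inv hQ h)
  rw [hc] at hlt
  obtain ⟨u, ⟨M, hM, hu⟩, hu1⟩ : ∃ u ∈ invSet x, u ≠ 1 := by
    by_contra hn; push Not at hn
    have : invSet x ⊆ {1} := fun u hu => hn u hu
    have := Set.ncard_le_ncard this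
    rw [Set.ncard_singleton] at this
    omega
  refine ⟨M, hM, ?_⟩
  have hd : Nat.card M ∣ 60 := hc ▸ M.card_subgroup_dvd_card
  have hm := hM.card_mod h
  have h1 : Nat.card M ≠ 1 := fun e => hu1 (by
    rw [Subgroup.card_eq_one] at e
    rw [e] at hu
    exact Subgroup.mem_bot.mp hu)
  have hle := Nat.le_of_dvd (by norm_num) hd
  generalize Nat.card M = m at *
  interval_cases m <;> omega

theorem exists_even_inv_oneSixtyEight [IsSimpleGroup Q] (hc : Nat.card Q = 168) :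
    ∃ (y : Q) (M : Subgroup Q), orderOf y = 3 ∧ Inv y M ∧ 2 ∣ Nat.card M := by
  haveI : Fact (Nat.Prime 3) := ⟨Nat.prime_three⟩
  obtain ⟨T⟩ := (inferInstance : Nonempty (Sylow 2 Q))
  obtain ⟨U, W, -, -, -, hU, -, -⟩ := CfsgLib.OneSixEight.Subgroups.exists_two hc T
  have hN := CfsgLib.OneSixEight.Subgroups.card_normalizer_four hc hU
  obtain ⟨⟨y, hy⟩, hy3⟩ := exists_prime_orderOf_dvd_card'
    (G := Subgroup.normalizer (U : Set Q)) 3 (by rw [hN]; norm_num)
  rw [← Subgroup.orderOf_coe] at hy3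
  exact ⟨y, U, hy3, ⟨hy, by rw [hU.card]; norm_num⟩, by rw [hU.card]; norm_num⟩

theorem exists_seven_oneSixtyEight [IsSimpleGroup Q] (hc : Nat.card Q = 168) (h : SC x) :
    ∃ (y s : Q) (m : ℕ), orderOf y = 3 ∧ ((m : ZMod 7) + 1) ≠ 0 ∧ orderOf s = 7 ∧
      s * y = y * s ^ m ∧ ∀ j : ℕ, orderOf (y * s ^ j) = 3 := by
  haveI : Fact (Nat.Prime 3) := ⟨Nat.prime_three⟩
  haveI : Fact (Nat.Prime 7) := ⟨by norm_num⟩
  obtain ⟨P⟩ := (inferInstance : Nonempty (Sylow 7 Q))
  have hN := CfsgLib.OneSixEight.card_normalizer_seven hc P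
  have hP := CfsgLib.OneSixEight.card_sylow_prime hc (Or.inr rfl) P
  obtain ⟨⟨y, hy⟩, hy3⟩ := exists_prime_orderOf_dvd_card'
    (G := Subgroup.normalizer ((P : Subgroup Q) : Set Q)) 3 (by rw [hN]; norm_num)
  rw [← Subgroup.orderOf_coe] at hy3
  change orderOf y = 3 at hy3
  have hyS := h.of_orderOf hy3
  have hI : Inv y (P : Subgroup Q) := ⟨hy, by rw [hP]; norm_num⟩
  obtain ⟨⟨s, hs⟩, hs7⟩ := exists_prime_orderOf_dvd_card' (G := (P : Subgroup Q)) 7 (by rw [hP])
  rw [← Subgroup.orderOf_coe] at hs7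
  change orderOf s = 7 at hs7
  have hgen : Subgroup.zpowers s = (P : Subgroup Q) :=
    eq_zpowers_of_card (by norm_num) hP hs (fun e => by rw [e, orderOf_one] at hs7; norm_num at hs7)
  have hsy : y⁻¹ * s * y ∈ Subgroup.zpowers s := by
    rw [hgen]; simpa using (Subgroup.mem_normalizer_iff.mp (inv_mem hy) s).mp hs
  rw [← mem_powers_iff_mem_zpowers, Submonoid.mem_powers_iff] at hsy
  obtain ⟨m, hm⟩ := hsy
  have hrel : s * y = y * s ^ m := by rw [hm]; group
  refine ⟨y, s, m, hy3, ?_, hs7, hrel, fun j => ?_⟩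
  · intro e
    have e7 : 7 ∣ m + 1 := (ZMod.natCast_eq_zero_iff (m + 1) 7).mp (by push_cast; exact e)
    have h1 : y⁻¹ * s * y = s⁻¹ := by
      rw [← hm]
      apply eq_inv_of_mul_eq_one_left
      rw [← pow_succ]
      exact orderOf_dvd_iff_pow_eq_one.mp (hs7 ▸ e7)
    have h2 : y⁻¹ * s⁻¹ * y = s := by
      rw [show y⁻¹ * s⁻¹ * y = (y⁻¹ * s * y)⁻¹ by group, h1, inv_inv]
    have h3 : s = s⁻¹ := by
      calc s = (y * y * y)⁻¹ * s * (y * y * y) := by rw [hyS.pow_three]; group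
        _ = y⁻¹ * (y⁻¹ * (y⁻¹ * s * y) * y) * y := by group
        _ = s⁻¹ := by rw [h1, h2, h1]
    have h4 : s ^ 2 = 1 := by rw [pow_two]; nth_rw 1 [h3]; exact inv_mul_cancel s
    have := orderOf_dvd_of_pow_eq_one h4
    rw [hs7] at this; norm_num at this
  · refine orderOf_eq_prime ?_ fun e => ?_
    · have hmem : s ^ j ∈ (P : Subgroup Q) := pow_mem hs j
      have e1 := hI.identity hyS hmem
      have e2 := hyS.pow_three
      rw [pow_three]
      calc y * s ^ j * (y * s ^ j * (y * s ^ j))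
          = (y * s ^ j * y⁻¹) * (y * (y * s ^ j * y⁻¹) * y⁻¹) * ((y * y * y) * s ^ j) := by group
        _ = (y * s ^ j * y⁻¹) * (y * (y * s ^ j * y⁻¹) * y⁻¹) * s ^ j := by rw [e2, one_mul]
        _ = 1 := mul_eq_one_comm.mp (by rw [← mul_assoc]; exact e1)
    · have : y ∈ (P : Subgroup Q) := by
        rw [eq_inv_of_mul_eq_one_left e]; exact inv_mem (pow_mem hs j)
      exact hI.not_dvd_orderOf this (by rw [hy3])

end CfsgLib.SCThree
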