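import Cfsg.Agent.Lib.SelfCentThree.Pieces

/-!
How many even maximal invariant subgroups there can be.
-/

set_option autoImplicit false
set_option linter.unusedVariables false

namespace CfsgLib.SCThree

open CfsgLib.SelfCent

universe u

variable {G : Type u} [Group G] [Finite G]

theorem Piece.eq_of_big {P D D' : Subgroup G} {y y' : G} (h : Piece P D y) (h' : Piece P D' y')
    (h4 : 4 < Nat.card D) : D = D' := by
  by_contra hne
  rcases Nat.lt_or_ge 4 (Nat.card D') with hb | hb
  · rcases h.top h4 with e | hH <;> rcases h'.top hb with e' | hH'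
    · exact hne (e.trans e'.symm)
    · exact mod_three_ne (e ▸ hH'.two) (h.inv.card_mod h.sc) (h'.inv.card_mod h'.sc)
    · exact mod_three_ne (e' ▸ hH.two) (h'.inv.card_mod h'.sc) (h.inv.card_mod h.sc)
    · exact absurd (hH.card_le_four hH' hne) (by omega)
  have h4' : Nat.card D' = 4 := le_antisymm hb h'.one_lt
  obtain ⟨hexp, hcomm⟩ := klein_of_piece h' h4'
  haveI : Fact (Nat.Prime 2) := ⟨Nat.prime_two⟩
  have hDn : ∀ p ∈ P, p ∈ Subgroup.normalizer (D : Set G) := by
    intro p hp
    rcases h.top h4 with e | hH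
    · exact e ▸ Subgroup.le_normalizer (e.symm ▸ hp)
    · have hidx : (D.subgroupOf P).index = 2 := by
        have := Subgroup.card_mul_index (D.subgroupOf P)
        rw [Nat.card_congr (Subgroup.subgroupOfEquivOfLe h.le).toEquiv, hH.two, mul_comm 2] at this
        exact Nat.eq_of_mul_eq_mul_left Nat.card_pos this
      haveI : (D.subgroupOf P).Normal := Subgroup.normal_of_index_eq_two hidx
      exact (Subgroup.normal_subgroupOf_iff_le_normalizer h.le).mp inferInstance hp
  obtain ⟨e, heD, he1, hec⟩ := exists_center_mem h.two_group h.le h.ne_bot hDn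
  have heD' : e ∈ D' := h'.self e (h.le heD) (fun d hd => (hec d (h'.le hd)).symm)
  by_cases hle : D' ≤ D
  · -- the centre of `D` is `D'`
    let Z := zIn D
    have hZD' : Z ≤ D' := fun z hz => h'.self z (h.le hz.1) fun d hd =>
      (Subgroup.mem_centralizer_iff.mp hz.2 d (hle hd)).symm
    have hZI : Inv y Z := by
      refine ⟨?_, fun hd => h.inv.2 (hd.trans (Subgroup.card_dvd_of_le inf_le_left))⟩
      rw [Subgroup.mem_normalizer_iff]
      have key : ∀ g : G, (∀ o ∈ D, g * o * g⁻¹ ∈ D) → (∀ o ∈ D, g⁻¹ * o * g ∈ D) →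
          ∀ z ∈ Z, g * z * g⁻¹ ∈ Z := by
        intro g hg hg' z hz
        refine Subgroup.mem_inf.mpr ⟨hg z hz.1, Subgroup.mem_centralizer_iff.mpr fun o ho => ?_⟩
        have := Subgroup.mem_centralizer_iff.mp hz.2 _ (hg' o ho)
        calc o * (g * z * g⁻¹) = g * (g⁻¹ * o * g * z) * g⁻¹ := by group
          _ = g * (z * (g⁻¹ * o * g)) * g⁻¹ := by rw [this]
          _ = _ := by group
      have hy1 : ∀ o ∈ D, y⁻¹ * o * y ∈ D := fun o ho => by
        simpa using (Subgroup.mem_normalizer_iff.mp (inv_mem h.inv.1) o).mp ho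
      intro z
      refine ⟨key y (fun o ho => h.inv.conj_mem ho) hy1 z, fun hz => ?_⟩
      have := key y⁻¹ (fun o ho => by simpa using hy1 o ho)
        (fun o ho => by simpa using h.inv.conj_mem ho) _ hz
      simpa [mul_assoc] using this
    have heZ : e ∈ Z := Subgroup.mem_inf.mpr
      ⟨heD, Subgroup.mem_centralizer_iff.mpr fun o ho => hec o (h.le ho)⟩
    have hcard : 4 ≤ Nat.card Z := by
      have hm := hZI.card_mod h.sc
      have h1 : Nat.card Z ≠ 1 := fun e1 => he1 (by
        rw [Subgroup.card_eq_one] at e1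
        rw [e1] at heZ
        exact Subgroup.mem_bot.mp heZ)
      have := Nat.card_pos (α := Z)
      omega
    have hZ : Z = D' := Subgroup.eq_of_le_of_card_ge hZD' (by omega)
    have hDD' : D ≤ D' := fun d hd => h'.self d (h.le hd) fun d' hd' =>
      Subgroup.mem_centralizer_iff.mp (hZ.symm ▸ hd' : d' ∈ Z).2 d hd
    have := Subgroup.card_le_of_le hDD'
    omega
  · obtain ⟨t, ht, htn⟩ := SetLike.not_le_iff_exists.mp hle
    rcases h.top h4 with e' | hH
    · exact htn (e'.symm ▸ h'.le ht)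
    have htP := h'.le ht
    have h2 := hH.two_lt_fixed h4 htP htn (hexp t ht)
      (fun d hd => (Subgroup.mem_normalizer_iff.mp (hDn t htP) d).mp hd)
    -- but `C_D(t)` lies in `D ⊓ D'`
    have hgen : ∀ d ∈ D', d = 1 ∨ d = e ∨ d = t ∨ d = e * t := by
      intro d hd
      by_contra hc
      push Not at hc
      have het : e ≠ t := fun h => htn (h ▸ heD)
      have het1 : e * t ≠ 1 := fun h => htn ((eq_inv_of_mul_eq_one_right h) ▸ inv_mem heD)
      have ht1 : t ≠ 1 := fun h => htn (h ▸ one_mem D)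
      have h5 : ({1, e, t, e * t, d} : Set G).ncard ≤ Nat.card D' := by
        rw [← Nat.card_coe_set_eq]
        refine Nat.card_le_card_of_injective (fun z => (⟨z.1, ?_⟩ : D')) (fun a b h =>
          Subtype.ext (congrArg (fun z : D' => (z : G)) h))
        obtain ⟨z, hz⟩ := z
        simp only [Set.mem_insert_iff, Set.mem_singleton_iff] at hz
        rcases hz with rfl | rfl | rfl | rfl | rfl
        · exact one_mem _
        · exact heD'
        · exact ht
        · exact mul_mem heD' ht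
        · exact hd
      have h6 : ({1, e, t, e * t, d} : Set G).ncard = 5 := by
        rw [Set.ncard_insert_of_notMem (by simp [he1.symm, ht1.symm, het1.symm, hc.1.symm]),
          Set.ncard_insert_of_notMem (by simp [het, hc.2.1.symm, ht1]),
          Set.ncard_insert_of_notMem (by simp [he1, hc.2.2.1.symm]),
          Set.ncard_insert_of_notMem (by simp [hc.2.2.2.symm]), Set.ncard_singleton]
      omega
    have hsub : (fixedIn D t : Set G) ⊆ {1, e} := by
      intro d hd
      obtain ⟨hdD, hdt⟩ := mem_fixedIn.mp hd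
      have hde : d * e = e * d := hec d (h.le hdD)
      have hdD' : d ∈ D' := h'.self d (h.le hdD) fun z hz => by
        rcases hgen z hz with rfl | rfl | rfl | rfl
        · rw [mul_one, one_mul]
        · exact hde
        · exact hdt
        · exact ((show Commute d e from hde).mul_right hdt).eq
      rcases hgen d hdD' with rfl | rfl | rfl | rfl
      · exact Or.inl rfl
      · exact Or.inr rfl
      · exact absurd hdD htn
      · exact absurd ((Subgroup.mul_mem_cancel_left D heD).mp hdD) htn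
    have := Set.ncard_le_ncard hsub
    rw [← Nat.card_coe_set_eq] at this
    have h3 : ({1, e} : Set G).ncard ≤ 2 := by
      calc ({1, e} : Set G).ncard ≤ ({e} : Set G).ncard + 1 := Set.ncard_insert_le 1 {e}
        _ = 2 := by rw [Set.ncard_singleton]
    have : Nat.card (fixedIn D t) ≤ 2 := this.trans h3
    omega

/-- At most three conjugacy classes of pieces of order four. -/
theorem card_small_le_three {P : Subgroup G} (S : Finset (Subgroup G))
    (hS : ∀ V ∈ S, (∃ y, Piece P V y) ∧ Nat.card V = 4)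
    (hdist : ∀ V ∈ S, ∀ W ∈ S, ∀ p ∈ P, cj p V = W → V = W) :
    S.card ≤ 3 ∧ (2 ≤ S.card → ∀ V ∈ S, 8 ∣ Nat.card P ∧
      P ⊓ Subgroup.normalizer (V : Set G) ≠ V) := by
  classical
  haveI : Fact (Nat.Prime 2) := ⟨Nat.prime_two⟩
  rcases S.eq_empty_or_nonempty with rfl | ⟨V₀, hV₀⟩
  · simp
  obtain ⟨⟨y₀, hp₀⟩, hc₀⟩ := hS V₀ hV₀
  have hP := hp₀.two_group
  have hPne : P ≠ ⊥ := fun e => hp₀.ne_bot (le_bot_iff.mp (e ▸ hp₀.le))
  obtain ⟨z, hzP, hz1, hz⟩ := exists_center_mem hP (le_refl P) hPne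
    (fun p hp => Subgroup.le_normalizer hp)
  by_cases hP4 : ∃ V ∈ S, P ⊓ Subgroup.normalizer (V : Set G) = V
  · obtain ⟨V, hV, e⟩ := hP4
    obtain ⟨⟨y, hp⟩, hc⟩ := hS V hV
    have hVP := eq_of_normInf_eq hP hp.le e
    have : S = {V} := Finset.eq_singleton_iff_unique_mem.mpr ⟨hV, fun W hW => by
      obtain ⟨⟨y', hp'⟩, hc'⟩ := hS W hW
      exact Subgroup.eq_of_le_of_card_ge (hVP ▸ hp'.le) (by omega)⟩
    rw [this]; simp
  push Not at hP4
  have h8 : ∀ V ∈ S, 8 ∣ Nat.card P := fun V hV => by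
    obtain ⟨⟨y, hp⟩, hc⟩ := hS V hV
    have h2 := (hp.half (hP4 V hV)).two
    rw [hc] at h2
    have h3 := Subgroup.card_dvd_of_le (inf_le_left : P ⊓ Subgroup.normalizer (V : Set G) ≤ P)
    rwa [h2] at h3
  refine ⟨?_, fun _ V hV => ⟨h8 V hV, hP4 V hV⟩⟩
  -- a non-central involution in each piece
  have hex : ∀ V ∈ S, ∃ t ∈ V, t ≠ 1 ∧ t ≠ z ∧
      (∀ p ∈ P, p * t = t * p → p ∈ V) ∧ ∀ v ∈ V, v = 1 ∨ v = z ∨ v = t ∨ v = z * t := by
    intro V hV
    obtain ⟨⟨y, hp⟩, hc⟩ := hS V hV
    obtain ⟨hexp, hcomm⟩ := klein_of_piece hp hc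
    have hzV : z ∈ V := hp.self z hzP fun d hd => (hz d (hp.le hd)).symm
    obtain ⟨t, ht, ht1, htz⟩ : ∃ t ∈ V, t ≠ 1 ∧ t ≠ z := by
      by_contra hcon; push Not at hcon
      have hsub : (V : Set G) ⊆ {1, z} := fun v hv => by
        rcases eq_or_ne v 1 with e | e
        · exact Or.inl e
        · exact Or.inr (hcon v hv e)
      have := Set.ncard_le_ncard hsub
      rw [← Nat.card_coe_set_eq] at this
      have h3 : ({1, z} : Set G).ncard ≤ 2 := by
        calc ({1, z} : Set G).ncard ≤ ({z} : Set G).ncard + 1 := Set.ncard_insert_le 1 {z}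
          _ = 2 := by rw [Set.ncard_singleton]
      have : Nat.card V ≤ 2 := this.trans h3
      omega
    have hzt : z * t ≠ 1 := fun e => htz (by
      rw [eq_inv_of_mul_eq_one_right e]
      exact inv_eq_of_mul_eq_one_left (hexp z hzV))
    have hgen : ∀ v ∈ V, v = 1 ∨ v = z ∨ v = t ∨ v = z * t := by
      have hsub : ({1, z, t, z * t} : Set G) ⊆ (V : Set G) := by
        intro v hv
        simp only [Set.mem_insert_iff, Set.mem_singleton_iff] at hv
        rcases hv with rfl | rfl | rfl | rfl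
        · exact one_mem _
        · exact hzV
        · exact ht
        · exact mul_mem hzV ht
      have hcard : ({1, z, t, z * t} : Set G).ncard = 4 := by
        rw [Set.ncard_insert_of_notMem (by simp [hz1.symm, ht1.symm, hzt.symm]),
          Set.ncard_insert_of_notMem (by simp [htz.symm, ht1]),
          Set.ncard_insert_of_notMem (by simp [hz1]), Set.ncard_singleton]
      have heq := Set.eq_of_subset_of_ncard_le hsub (by
        rw [hcard, ← Nat.card_coe_set_eq]; exact le_of_eq hc)
      intro v hv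
      have : v ∈ ({1, z, t, z * t} : Set G) := heq ▸ hv
      simpa using this
    refine ⟨t, ht, ht1, htz, fun p hp' hpt => hp.self p hp' fun d hd => ?_, hgen⟩
    rcases hgen d hd with rfl | rfl | rfl | rfl
    · rw [mul_one, one_mul]
    · exact hz p hp'
    · exact hpt
    · exact ((show Commute p z from hz p hp').mul_right hpt).eq
  choose t ht ht1 htz htc htg using hex
  haveI : Fintype G := Fintype.ofFinite G
  letI : Fintype P := Fintype.ofFinite P
  let O : S → Finset G := fun V => Finset.univ.image (fun p : P => (p : G) * t V.1 V.2 * (p : G)⁻¹)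
  have hO : ∀ V : S, Nat.card P ≤ 4 * (O V).card := by
    intro V
    rw [Nat.card_eq_fintype_card, ← Finset.card_univ]
    refine Finset.card_le_mul_card_image _ _ fun a ha => ?_
    obtain ⟨p₀, -, rfl⟩ := Finset.mem_image.mp ha
    rw [← Nat.card_eq_finsetCard, ← (hS V.1 V.2).2]
    refine Nat.card_le_card_of_injective (fun p => (⟨(p₀ : G)⁻¹ * (p.1 : G), ?_⟩ : (V : Subgroup G)))
      (fun a b e => Subtype.ext (Subtype.ext (mul_left_cancel (congrArg Subtype.val e))))
    obtain ⟨p, hp⟩ := p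
    rw [Finset.mem_filter] at hp
    refine htc V.1 V.2 _ (mul_mem (inv_mem p₀.2) p.2) ?_
    calc (p₀ : G)⁻¹ * (p : G) * t V.1 V.2
        = (p₀ : G)⁻¹ * ((p : G) * t V.1 V.2 * (p : G)⁻¹) * p := by group
      _ = (p₀ : G)⁻¹ * ((p₀ : G) * t V.1 V.2 * (p₀ : G)⁻¹) * p := by rw [hp.2]
      _ = _ := by group
  have hdisj : ∀ V W : S, V ≠ W → Disjoint (O V) (O W) := by
    intro V W hne
    rw [Finset.disjoint_left]
    intro a ha hb
    obtain ⟨p, -, rfl⟩ := Finset.mem_image.mp ha
    obtain ⟨q, -, hq⟩ := Finset.mem_image.mp hb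
    apply hne
    apply Subtype.ext
    refine hdist V.1 V.2 W.1 W.2 ((q : G)⁻¹ * p) (mul_mem (inv_mem q.2) p.2) ?_
    have hqp : ((q : G)⁻¹ * p) ∈ P := mul_mem (inv_mem q.2) p.2
    have e : ((q : G)⁻¹ * p) * t V.1 V.2 * ((q : G)⁻¹ * p)⁻¹ = t W.1 W.2 := by
      calc ((q : G)⁻¹ * p) * t V.1 V.2 * ((q : G)⁻¹ * p)⁻¹
          = (q : G)⁻¹ * ((p : G) * t V.1 V.2 * (p : G)⁻¹) * q := by group
        _ = (q : G)⁻¹ * ((q : G) * t W.1 W.2 * (q : G)⁻¹) * q := by rw [hq]
        _ = _ := by group
    have ez : ((q : G)⁻¹ * p) * z * ((q : G)⁻¹ * p)⁻¹ = z := by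
      rw [hz _ hqp]; group
    have hzW : z ∈ W.1 := (hS W.1 W.2).1.choose_spec.self z hzP
      fun d hd => (hz d ((hS W.1 W.2).1.choose_spec.le hd)).symm
    refine Subgroup.eq_of_le_of_card_ge ?_ (by rw [card_cj, (hS V.1 V.2).2, (hS W.1 W.2).2])
    rintro _ ⟨v, hv, rfl⟩
    rw [MulEquiv.coe_toMonoidHom, MulAut.conj_apply]
    rcases htg V.1 V.2 v hv with rfl | rfl | rfl | rfl
    · simp
    · rw [ez]; exact hzW
    · rw [e]; exact ht W.1 W.2
    · rw [show ((q : G)⁻¹ * p) * (z * t V.1 V.2) * ((q : G)⁻¹ * p)⁻¹ =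
        (((q : G)⁻¹ * p) * z * ((q : G)⁻¹ * p)⁻¹) *
          (((q : G)⁻¹ * p) * t V.1 V.2 * ((q : G)⁻¹ * p)⁻¹) by group, ez, e]
      exact mul_mem hzW (ht W.1 W.2)
  -- the orbits avoid `1` and `z`
  let all : Finset G := Finset.univ.filter (fun g => g ∈ P ∧ g ≠ 1 ∧ g ≠ z)
  have hall : all.card + 2 ≤ Nat.card P := by
    have hins : insert 1 (insert z all) ⊆ Finset.univ.filter (fun g => g ∈ P) := by
      intro g hg
      simp only [Finset.mem_insert] at hg
      rcases hg with rfl | rfl | hg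
      · simp
      · simp [hzP]
      · simp [all] at hg; simp [hg.1]
    have := Finset.card_le_card hins
    rw [Finset.card_insert_of_notMem (by simp [all, hz1.symm]),
      Finset.card_insert_of_notMem (by simp [all])] at this
    rw [Nat.card_eq_fintype_card, Fintype.card_of_subtype
      (Finset.univ.filter (fun g : G => g ∈ P)) (by simp)]
    exact this
  have hsub : Finset.univ.biUnion O ⊆ all := by
    intro a ha
    obtain ⟨V, -, hV⟩ := Finset.mem_biUnion.mp ha
    obtain ⟨p, -, rfl⟩ := Finset.mem_image.mp hV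
    obtain ⟨⟨y, hp⟩, hc⟩ := hS V.1 V.2
    simp only [all, Finset.mem_filter, Finset.mem_univ, true_and]
    refine ⟨mul_mem (mul_mem p.2 (hp.le (ht V.1 V.2))) (inv_mem p.2), ?_, ?_⟩
    · intro e; exact ht1 V.1 V.2 (conj_eq_one_iff.mp e)
    · intro e
      apply htz V.1 V.2
      calc t V.1 V.2 = (p : G)⁻¹ * ((p : G) * t V.1 V.2 * (p : G)⁻¹) * p := by group
        _ = (p : G)⁻¹ * z * p := by rw [e]
        _ = z := by rw [mul_assoc, ← hz _ p.2]; group
  have hsum : ∑ V : S, (O V).card ≤ all.card := by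
    rw [← Finset.card_biUnion (fun V _ W _ hne => hdisj V W hne)]
    exact Finset.card_le_card hsub
  have : S.card * Nat.card P ≤ 4 * all.card := by
    calc S.card * Nat.card P = ∑ V : S, Nat.card P := by
          simp
      _ ≤ ∑ V : S, 4 * (O V).card := Finset.sum_le_sum fun V _ => hO V
      _ = 4 * ∑ V : S, (O V).card := by rw [Finset.mul_sum]
      _ ≤ _ := Nat.mul_le_mul_left 4 hsum
  nlinarith

end CfsgLib.SCThree
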