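import Cfsg.Agent.Lib.SelfCentThree.Modules
import Cfsg.Agent.Lib.SelfCentThree.Existence
import Cfsg.Agent.Lib.SmallOrder.Exclude

/-!
The core of a group whose quotient by a `3'`-subgroup has order 60 or 168.
-/

set_option autoImplicit false
set_option linter.unusedVariables false

open scoped IsMulCommutative

namespace CfsgLib.SCThree

open CfsgLib.SelfCent

universe u

variable {G : Type u} [Group G] [Finite G] {x : G}

theorem three_of_inv (h : SC x) {M : Subgroup G} (hM : Inv x M) {v : G} (hv : v ∈ M) :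
    (x * v) * (x * v) * (x * v) = 1 ∧ x * v ≠ 1 := by
  refine ⟨?_, fun e => ?_⟩
  · calc x * v * (x * v) * (x * v)
        = (x * v * x⁻¹) * (x * (x * v * x⁻¹) * x⁻¹) * ((x * x * x) * v) := by group
      _ = (x * v * x⁻¹) * (x * (x * v * x⁻¹) * x⁻¹) * v := by rw [h.pow_three, one_mul]
      _ = 1 := mul_eq_one_comm.mp (by rw [← mul_assoc]; exact hM.identity h hv)
  · have : x ∈ M := by rw [eq_inv_of_mul_eq_one_left e]; exact inv_mem hv
    exact hM.not_dvd_orderOf this (by rw [h.2.1])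

theorem eq_top_of_quotient (O C : Subgroup G) [O.Normal] [C.Normal] [IsSimpleGroup (G ⧸ O)]
    (hOC : O ≤ C) {g : G} (hg : g ∈ C) (hgO : g ∉ O) : C = ⊤ := by
  haveI : (C.map (QuotientGroup.mk' O)).Normal :=
    Subgroup.Normal.map inferInstance _ (QuotientGroup.mk'_surjective O)
  rcases (inferInstance : (C.map (QuotientGroup.mk' O)).Normal).eq_bot_or_eq_top with e | e
  · exact absurd ((QuotientGroup.eq_one_iff g).mp
      (Subgroup.mem_bot.mp (e ▸ Subgroup.mem_map_of_mem _ hg))) hgO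
  · have := congrArg (Subgroup.comap (QuotientGroup.mk' O)) e
    rwa [QuotientGroup.comap_map_mk', Subgroup.comap_top, sup_eq_right.mpr hOC] at this

/-- The centre of a normal subgroup. -/
def zIn (O : Subgroup G) : Subgroup G := O ⊓ Subgroup.centralizer (O : Set G)

instance (O : Subgroup G) [O.Normal] : (zIn O).Normal := by unfold zIn; infer_instance

instance (O : Subgroup G) : IsMulCommutative (zIn O) :=
  ⟨⟨fun a b => Subtype.ext (Subgroup.mem_centralizer_iff.mp b.2.2 a a.2.1)⟩⟩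

theorem le_centralizer_zIn (O : Subgroup G) : O ≤ Subgroup.centralizer (zIn O : Set G) :=
  fun o ho => Subgroup.mem_centralizer_iff.mpr fun _ hw =>
    (Subgroup.mem_centralizer_iff.mp hw.2 o ho).symm

theorem zIn_ne_bot (h : SC x) (O : Subgroup G) [O.Normal] (hO : ¬ 3 ∣ Nat.card O) (hne : O ≠ ⊥) :
    zIn O ≠ ⊥ := by
  haveI : Group.IsNilpotent O :=
    Inv.isNilpotent (x := x) h ⟨by rw [Subgroup.normalizer_eq_top]; trivial, hO⟩
  haveI : Nontrivial O := (Subgroup.nontrivial_iff_ne_bot O).mpr hne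
  haveI : Nontrivial (Subgroup.center O) :=
    (Subgroup.nontrivial_iff_ne_bot _).mpr (Group.IsNilpotent.center_ne_bot O)
  obtain ⟨⟨z, hz⟩, hz1⟩ := exists_ne (1 : Subgroup.center O)
  intro e
  refine hz1 (Subtype.ext (Subtype.ext (Subgroup.mem_bot.mp (e ▸ ?_))))
  exact ⟨z.2, Subgroup.mem_centralizer_iff.mpr fun o ho =>
    congrArg Subtype.val (Subgroup.mem_center_iff.mp hz ⟨o, ho⟩)⟩

theorem normal_centralizer_pow (W : Subgroup G) [W.Normal] (n : ℕ) :
    (Subgroup.centralizer ((fun w => w ^ n) '' (W : Set G))).Normal := by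
  refine ⟨fun g hg a => ?_⟩
  rw [Subgroup.mem_centralizer_iff] at hg ⊢
  rintro _ ⟨w, hw, rfl⟩
  have h1 := hg _ ⟨a⁻¹ * w * a⁻¹⁻¹, (inferInstance : W.Normal).conj_mem w hw a⁻¹, rfl⟩
  simp only [inv_inv] at h1
  rw [show (a⁻¹ * w * a) ^ n = a⁻¹ * w ^ n * a by simpa using conj_pow (a := a⁻¹) (b := w)] at h1
  calc w ^ n * (a * g * a⁻¹) = a * (a⁻¹ * w ^ n * a * g) * a⁻¹ := by group
    _ = a * (g * (a⁻¹ * w ^ n * a)) * a⁻¹ := by rw [h1]
    _ = _ := by group

theorem pow_eq_one_of_mem_zIn (h : SC x) (O : Subgroup G) [O.Normal] [IsSimpleGroup (G ⧸ O)]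
    (hO : ¬ 3 ∣ Nat.card O) {n : ℕ} {g : G} (hgO : g ∉ O)
    (hg : ∀ w ∈ zIn O, g * w ^ n = w ^ n * g) {w : G} (hw : w ∈ zIn O) : w ^ n = 1 := by
  haveI := normal_centralizer_pow (zIn O) n
  have hC := eq_top_of_quotient O (Subgroup.centralizer ((fun w => w ^ n) '' (zIn O : Set G)))
    (fun o ho => by
      rw [Subgroup.mem_centralizer_iff]
      rintro _ ⟨v, hv, rfl⟩
      exact (Subgroup.mem_centralizer_iff.mp (pow_mem hv n).2 o ho).symm)
    (g := g) (by
      rw [Subgroup.mem_centralizer_iff]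
      rintro _ ⟨v, hv, rfl⟩
      exact (hg v hv).symm) hgO
  have hx : x ∈ Subgroup.centralizer ((fun w => w ^ n) '' (zIn O : Set G)) := hC ▸ Subgroup.mem_top x
  rw [Subgroup.mem_centralizer_iff] at hx
  refine Inv.eq_one (x := x) h (M := O) ⟨by rw [Subgroup.normalizer_eq_top]; trivial, hO⟩
    (pow_mem hw.1 n) ?_
  exact hx _ ⟨w, hw, rfl⟩

variable (O : Subgroup G) [O.Normal]

theorem exists_order_three_coset (hO : ¬ 3 ∣ Nat.card O) {g : G} (hg : g ∉ O) (hg3 : g ^ 3 ∈ O) :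
    ∃ y : G, orderOf y = 3 ∧ y⁻¹ * g ∈ O := by
  set k := Nat.card O with hk
  have h3k : (g ^ k) ^ 3 = 1 := by
    rw [← pow_mul, mul_comm, pow_mul]
    have : (⟨g ^ 3, hg3⟩ : O) ^ k = 1 := pow_card_eq_one'
    exact congrArg Subtype.val this
  have hlt : k % 3 < 3 := Nat.mod_lt _ (by norm_num)
  have h0 : k % 3 ≠ 0 := fun e => hO (Nat.dvd_of_mod_eq_zero e)
  have hne : g ^ k ∉ O := by
    intro hmem
    apply hg
    have hr : g ^ (k % 3) ∈ O := by
      rw [← Nat.div_add_mod k 3, pow_add, pow_mul] at hmem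
      exact (Subgroup.mul_mem_cancel_left O (pow_mem hg3 _)).mp hmem
    interval_cases hh : k % 3
    · exact absurd rfl h0
    · simpa using hr
    · have := mul_mem hg3 (inv_mem hr)
      simpa [pow_succ, mul_assoc] using this
  have hy : orderOf (g ^ k) = 3 := orderOf_eq_prime h3k fun e => hne (e ▸ one_mem O)
  obtain ⟨q, hq⟩ : ∃ q, k = 3 * q + 1 ∨ k = 3 * q + 2 := ⟨k / 3, by omega⟩
  rcases hq with hq | hq
  · refine ⟨g ^ k, hy, ?_⟩
    have e : (g ^ k)⁻¹ * g = ((g ^ 3) ^ q)⁻¹ := by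
      rw [← pow_mul, hq, pow_succ', mul_inv_rev, mul_assoc, inv_mul_cancel, mul_one]
    rw [e]; exact inv_mem (pow_mem hg3 _)
  · refine ⟨(g ^ k)⁻¹, by rw [orderOf_inv, hy], ?_⟩
    have e : (g ^ k)⁻¹⁻¹ * g = (g ^ 3) ^ (q + 1) := by
      rw [inv_inv, ← pow_mul, ← pow_succ]; congr 1; omega
    rw [e]; exact pow_mem hg3 _

theorem orderOf_quotient_three (hO : ¬ 3 ∣ Nat.card O) {q : G ⧸ O} (hq : orderOf q = 3) :
    ∃ y : G, orderOf y = 3 ∧ (QuotientGroup.mk y : G ⧸ O) = q := by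
  obtain ⟨g, rfl⟩ := QuotientGroup.mk_surjective q
  have hg : g ∉ O := fun e => by
    rw [(QuotientGroup.eq_one_iff g).mpr e, orderOf_one] at hq; norm_num at hq
  have hg3 : g ^ 3 ∈ O := by
    rw [← QuotientGroup.eq_one_iff, QuotientGroup.mk_pow, ← hq, pow_orderOf_eq_one]
  obtain ⟨y, hy, hyg⟩ := exists_order_three_coset O hO hg hg3
  exact ⟨y, hy, QuotientGroup.eq.mpr hyg⟩

/-- Elements giving a four group action. -/
theorem exists_tetra [IsSimpleGroup (G ⧸ O)] (h : SC x) (hO : ¬ 3 ∣ Nat.card O)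
    (hc : Nat.card (G ⧸ O) = 60 ∨ Nat.card (G ⧸ O) = 168) :
    ∃ y v : G, orderOf y = 3 ∧ v * v ∈ O ∧ v ∉ O ∧ y * v ∉ O ∧ (y * v) ^ 3 ∈ O ∧ y * y * v ∉ O ∧
      (y * y * v) ^ 3 ∈ O ∧ y⁻¹ * v⁻¹ * y * v ∉ O := by
  have hsc := h.quotient O hO
  have hQ : ¬ IsMulCommutative (G ⧸ O) := CfsgLib.SmallOrder.not_comm_of_not_prime (fun hp => by
    rcases hc with e | e <;> rw [e] at hp <;> norm_num at hp)
  obtain ⟨y', M, hy', hM, h2⟩ : ∃ (y' : G ⧸ O) (M : Subgroup (G ⧸ O)),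
      orderOf y' = 3 ∧ Inv y' M ∧ 2 ∣ Nat.card M := by
    rcases hc with e | e
    · obtain ⟨M, hM, h2⟩ := exists_even_inv_sixty hQ e hsc
      exact ⟨_, M, hsc.2.1, hM, h2⟩
    · exact exists_even_inv_oneSixtyEight e
  obtain ⟨v', hv', hv1, hv2⟩ := exists_two_element h2
  obtain ⟨y, hy, rfl⟩ := orderOf_quotient_three O hO hy'
  obtain ⟨v, rfl⟩ := QuotientGroup.mk_surjective v'
  have hys := hsc.of_orderOf hy'
  obtain ⟨a1, a2⟩ := three_of_inv hys hM hv'
  have hys' : SC (QuotientGroup.mk y : G ⧸ O)⁻¹ := hsc.of_orderOf (by rw [orderOf_inv, hy'])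
  obtain ⟨b1, b2⟩ := three_of_inv hys' (M := M) ⟨inv_mem hM.1, hM.2⟩ hv'
  rw [hys.inv_eq] at b1 b2
  refine ⟨y, v, hy, ?_, fun e => hv1 ((QuotientGroup.eq_one_iff v).mpr e), ?_, ?_, ?_, ?_, ?_⟩
  · rw [← QuotientGroup.eq_one_iff, QuotientGroup.mk_mul, hv2]
  · rw [← QuotientGroup.eq_one_iff, QuotientGroup.mk_mul]; exact a2
  · rw [← QuotientGroup.eq_one_iff, QuotientGroup.mk_pow, QuotientGroup.mk_mul, pow_three,
      ← mul_assoc]
    exact a1
  · rw [← QuotientGroup.eq_one_iff, QuotientGroup.mk_mul, QuotientGroup.mk_mul]; exact b2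
  · rw [← QuotientGroup.eq_one_iff, QuotientGroup.mk_pow, QuotientGroup.mk_mul, QuotientGroup.mk_mul,
      pow_three, ← mul_assoc]
    exact b1
  · rw [← QuotientGroup.eq_one_iff, QuotientGroup.mk_mul, QuotientGroup.mk_mul, QuotientGroup.mk_mul,
      QuotientGroup.mk_inv, QuotientGroup.mk_inv]
    intro e
    refine hv1 (hM.eq_one hys hv' ?_)
    calc (QuotientGroup.mk v : G ⧸ O) * QuotientGroup.mk y
        = (QuotientGroup.mk v : G ⧸ O) * QuotientGroup.mk y *
          ((QuotientGroup.mk y : G ⧸ O)⁻¹ * (QuotientGroup.mk v : G ⧸ O)⁻¹ *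
            QuotientGroup.mk y * QuotientGroup.mk v) := by rw [e, mul_one]
      _ = _ := by group

theorem sq_eq_one_zIn [IsSimpleGroup (G ⧸ O)] (h : SC x) (hO : ¬ 3 ∣ Nat.card O)
    (hc : Nat.card (G ⧸ O) = 60 ∨ Nat.card (G ⧸ O) = 168) {w : G} (hw : w ∈ zIn O) : w ^ 2 = 1 := by
  obtain ⟨y, v, hy, hvv, hv, h1, h1', h2, h2', -⟩ := exists_tetra O h hO hc
  have hW : ¬ 3 ∣ Nat.card (zIn O) := fun hd => hO (hd.trans (Subgroup.card_dvd_of_le inf_le_left))
  refine pow_eq_one_of_mem_zIn h O hO hv (fun w hw => ?_) hw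
  exact commute_sq (zIn O) O h hW hO (le_centralizer_zIn O) hy hvv h1 h1' h2 h2' hw

theorem eq_bot_oneSixtyEight [IsSimpleGroup (G ⧸ O)] (h : SC x) (hO : ¬ 3 ∣ Nat.card O)
    (hc : Nat.card (G ⧸ O) = 168) : O = ⊥ := by
  by_contra hne
  apply zIn_ne_bot h O hO hne
  rw [Subgroup.eq_bot_iff_forall]
  intro w hw
  obtain ⟨y', s', m, hy', hm, hs', hrel, hj⟩ := exists_seven_oneSixtyEight hc (h.quotient O hO)
  obtain ⟨y, hy, rfl⟩ := orderOf_quotient_three O hO hy'
  obtain ⟨s, rfl⟩ := QuotientGroup.mk_surjective s'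
  have hW : ¬ 3 ∣ Nat.card (zIn O) := fun hd => hO (hd.trans (Subgroup.card_dvd_of_le inf_le_left))
  have hsO : s ∉ O := fun e => by
    rw [(QuotientGroup.eq_one_iff s).mpr e, orderOf_one] at hs'; norm_num at hs'
  have h7 : w ^ 7 = 1 := by
    refine pow_eq_one_of_mem_zIn h O hO hsO (fun w hw => ?_) hw
    refine commute_pow_seven (zIn O) O h hW hO (le_centralizer_zIn O) hm hy ?_ ?_ ?_ hw
    · rw [← QuotientGroup.eq_one_iff, QuotientGroup.mk_pow, ← hs', pow_orderOf_eq_one]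
    · refine QuotientGroup.eq.mp ?_
      rw [QuotientGroup.mk_mul, QuotientGroup.mk_mul, QuotientGroup.mk_pow, hrel]
    · intro j _
      constructor
      · intro e
        have := hj j
        rw [← QuotientGroup.mk_pow, ← QuotientGroup.mk_mul, (QuotientGroup.eq_one_iff _).mpr e,
          orderOf_one] at this
        norm_num at this
      · rw [← QuotientGroup.eq_one_iff, QuotientGroup.mk_pow, QuotientGroup.mk_mul,
          QuotientGroup.mk_pow, ← hj j, pow_orderOf_eq_one]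
  have h2 := sq_eq_one_zIn O h hO (Or.inr hc) hw
  calc w = w ^ 7 * ((w ^ 2) ^ 3)⁻¹ := by group
    _ = 1 := by rw [h7, h2]; simp

/-- For a quotient of order 60 the core is an elementary abelian 2-group. -/
theorem elementary_sixty : ∀ (n : ℕ) (G : Type u) [Group G] [Finite G] (x : G) (O : Subgroup G)
    [O.Normal] [IsSimpleGroup (G ⧸ O)], Nat.card O = n → SC x → ¬ 3 ∣ Nat.card O →
    Nat.card (G ⧸ O) = 60 →
    (∀ a ∈ O, ∀ b ∈ O, a * b = b * a) ∧ ∀ a ∈ O, a * a = 1 := by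
  intro n
  induction n using Nat.strong_induction_on with
  | _ n ih =>
  intro G _ _ x O _ _ hn h hO hc
  have hZsq : ∀ w ∈ zIn O, w * w = 1 := fun w hw => by
    rw [← pow_two]; exact sq_eq_one_zIn O h hO (Or.inl hc) hw
  suffices hle : O ≤ zIn O by
    exact ⟨fun a ha b hb => Subgroup.mem_centralizer_iff.mp (hle hb).2 a ha,
      fun a ha => hZsq a (hle ha)⟩
  by_cases hne : O = ⊥
  · rw [hne]; exact bot_le
  set W := zIn O with hWdef
  have hWne : W ≠ ⊥ := zIn_ne_bot h O hO hne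
  have hWO : W ≤ O := inf_le_left
  have hW3 : ¬ 3 ∣ Nat.card W := fun hd => hO (hd.trans (Subgroup.card_dvd_of_le hWO))
  set f := QuotientGroup.mk' W with hf
  haveI : (O.map f).Normal :=
    Subgroup.Normal.map inferInstance _ (QuotientGroup.mk'_surjective W)
  have e := QuotientGroup.quotientQuotientEquivQuotient W O hWO
  haveI : IsSimpleGroup ((G ⧸ W) ⧸ O.map f) := e.isSimpleGroup_congr.mpr inferInstance
  have hcard : Nat.card (O.map f) * Nat.card W = Nat.card O := by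
    have h1 := Subgroup.card_mul_index (W.subgroupOf O)
    rw [Nat.card_congr (Subgroup.subgroupOfEquivOfLe hWO).toEquiv] at h1
    rw [← h1, mul_comm]
    congr 1
    rw [Subgroup.index_eq_card]
    rw [Nat.card_congr ((QuotientGroup.quotientMulEquivOfEq (N := (f.comp O.subtype).ker)
      (show W.subgroupOf O = (f.comp O.subtype).ker by
        ext z; simp [f, MonoidHom.mem_ker, Subgroup.mem_subgroupOf])).trans
      (QuotientGroup.quotientKerEquivRange (f.comp O.subtype))).toEquiv]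
    rw [MonoidHom.range_comp, Subgroup.range_subtype]
  have hW1 : 1 < Nat.card W := by
    rcases Nat.lt_or_ge 1 (Nat.card W) with hl | hl
    · exact hl
    · exact absurd (Subgroup.card_eq_one.mp (le_antisymm hl Nat.card_pos)) hWne
  have hlt : Nat.card (O.map f) < n := by
    have : 0 < Nat.card (O.map f) := Nat.card_pos
    nlinarith
  have hO' : ¬ 3 ∣ Nat.card (O.map f) := fun hd => hO (hd.trans ⟨_, hcard.symm⟩)
  obtain ⟨hcomm', hsq'⟩ := ih _ hlt (G ⧸ W) (QuotientGroup.mk x) (O.map f) rfl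
    (h.quotient W hW3) hO' (by rw [Nat.card_congr e.toEquiv, hc])
  have hcm : ∀ a ∈ O, ∀ b ∈ O, a * b * a⁻¹ * b⁻¹ ∈ W := fun a ha b hb => by
    have := hcomm' _ (Subgroup.mem_map_of_mem f ha) _ (Subgroup.mem_map_of_mem f hb)
    rw [← QuotientGroup.eq_one_iff]
    show f (a * b * a⁻¹ * b⁻¹) = 1
    rw [map_mul, map_mul, map_mul, this, map_inv, map_inv]
    group
  let c : G → G → G := fun a b => a * b * a⁻¹ * b⁻¹
  have hcen : ∀ a ∈ O, ∀ b ∈ O, ∀ o ∈ O, o * c a b = c a b * o := fun a ha b hb o ho =>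
    Subgroup.mem_centralizer_iff.mp (hcm a ha b hb).2 o ho
  have hinv : ∀ a b : G, c b a = (c a b)⁻¹ := fun a b => by simp only [c]; group
  have hmul : ∀ a ∈ O, ∀ b ∈ O, ∀ d ∈ O, c (a * b) d = c a d * c b d := fun a ha b hb d hd => by
    calc c (a * b) d = a * c b d * a⁻¹ * c a d := by simp only [c]; group
      _ = c b d * c a d := by rw [hcen b hb d hd a ha]; group
      _ = c a d * c b d := (hcen b hb d hd _ (hWO (hcm a ha d hd))).symm
  have hmul' : ∀ a ∈ O, ∀ b ∈ O, ∀ d ∈ O, c a (b * d) = c a b * c a d := fun a ha b hb d hd => by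
    rw [hinv (b * d) a, hmul b hb d hd a ha, hinv a b, hinv a d, mul_inv_rev, inv_inv, inv_inv]
    exact hcen a ha b hb _ (hWO (hcm a ha d hd))
  have hconj : ∀ (g : G), ∀ a ∈ O, g * a * g⁻¹ ∈ O := fun g a ha =>
    (inferInstance : O.Normal).conj_mem a ha g
  have hself : ∀ g : G, g ∉ O → g ^ 3 ∈ O → ∀ a ∈ O, ∀ b ∈ O,
      c (g * a * g⁻¹) b = c a (g * b * g⁻¹) := by
    intro g hg hg3
    obtain ⟨y, hy, hyg⟩ := exists_order_three_coset O hO hg hg3
    have hys := h.of_orderOf hy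
    have hI : Inv y O := ⟨by rw [Subgroup.normalizer_eq_top]; trivial, hO⟩
    have hy1 : ∀ a ∈ O, c a (y * a * y⁻¹) = 1 := fun a ha => by
      show a * (y * a * y⁻¹) * a⁻¹ * (y * a * y⁻¹)⁻¹ = 1
      rw [hI.commute hys ha]; group
    have hysymm : ∀ a ∈ O, ∀ b ∈ O, c (y * a * y⁻¹) b = c a (y * b * y⁻¹) := fun a ha b hb => by
      have := hy1 (a * b) (mul_mem ha hb)
      rw [show y * (a * b) * y⁻¹ = (y * a * y⁻¹) * (y * b * y⁻¹) by group,
        hmul' _ (mul_mem ha hb) _ (hconj y a ha) _ (hconj y b hb),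
        hmul a ha b hb _ (hconj y a ha), hmul a ha b hb _ (hconj y b hb), hy1 a ha, hy1 b hb,
        one_mul, mul_one, hinv (y * a * y⁻¹) b] at this
      exact inv_mul_eq_one.mp this
    intro a ha b hb
    set o := y⁻¹ * g with ho
    have hg' : g = y * o := by rw [ho]; group
    have hoc : ∀ a ∈ O, ∀ b ∈ O, c (o * a * o⁻¹) b = c a b ∧ c b (o * a * o⁻¹) = c b a := by
      intro a ha b hb
      have e1 : o * a * o⁻¹ = c o a * a := by simp only [c]; group
      have hw := hcm o hyg a ha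
      constructor
      · rw [e1, hmul _ (hWO hw) a ha b hb]
        have : c (c o a) b = 1 := by
          show c o a * b * (c o a)⁻¹ * b⁻¹ = 1
          rw [mul_inv_eq_one, mul_inv_eq_iff_eq_mul]
          exact (Subgroup.mem_centralizer_iff.mp hw.2 b hb).symm
        rw [this, one_mul]
      · rw [e1, hmul' b hb _ (hWO hw) a ha]
        have : c b (c o a) = 1 := by
          show b * c o a * b⁻¹ * (c o a)⁻¹ = 1
          rw [mul_inv_eq_one, mul_inv_eq_iff_eq_mul]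
          exact Subgroup.mem_centralizer_iff.mp hw.2 b hb
        rw [this, one_mul]
    calc c (g * a * g⁻¹) b = c (y * (o * a * o⁻¹) * y⁻¹) b := by rw [hg']; group
      _ = c (o * a * o⁻¹) (y * b * y⁻¹) := hysymm _ (hconj o a ha) b hb
      _ = c a (y * b * y⁻¹) := (hoc a ha _ (hconj y b hb)).1
      _ = c (y * a * y⁻¹) b := (hysymm a ha b hb).symm
      _ = c (y * a * y⁻¹) (o * b * o⁻¹) := ((hoc b hb _ (hconj y a ha)).2).symm
      _ = c a (y * (o * b * o⁻¹) * y⁻¹) := hysymm a ha _ (hconj o b hb)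
      _ = _ := by rw [hg']; group
  -- the normal subgroup of elements acting trivially on `O ⧸ W`
  let C : Subgroup G :=
    { carrier := {g | ∀ a ∈ O, g * a * g⁻¹ * a⁻¹ ∈ W}
      one_mem' := fun a _ => by simp
      mul_mem' := fun {g k} hg hk a ha => by
        have h1 := hk a ha
        have h2 := hg (k * a * k⁻¹) (hconj k a ha)
        have e : g * k * a * (g * k)⁻¹ * a⁻¹ =
            (g * (k * a * k⁻¹) * g⁻¹ * (k * a * k⁻¹)⁻¹) * (k * a * k⁻¹ * a⁻¹) := by group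
        rw [e]; exact mul_mem h2 h1
      inv_mem' := fun {g} hg a ha => by
        have h1 := hg (g⁻¹ * a * g⁻¹⁻¹) (hconj g⁻¹ a ha)
        have e : g⁻¹ * a * g⁻¹⁻¹ * a⁻¹ =
            (g * (g⁻¹ * a * g⁻¹⁻¹) * g⁻¹ * (g⁻¹ * a * g⁻¹⁻¹)⁻¹)⁻¹ := by group
        rw [e]; exact inv_mem h1 }
  haveI : C.Normal := ⟨fun g hg k a ha => by
    have h1 := hg (k⁻¹ * a * k⁻¹⁻¹) (hconj k⁻¹ a ha)
    have e : k * g * k⁻¹ * a * (k * g * k⁻¹)⁻¹ * a⁻¹ =
        k * (g * (k⁻¹ * a * k⁻¹⁻¹) * g⁻¹ * (k⁻¹ * a * k⁻¹⁻¹)⁻¹) * k⁻¹ := by group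
    rw [e]; exact (inferInstance : W.Normal).conj_mem _ h1 k⟩
  obtain ⟨y, v, hy, hvv, hv, h1, h1', h2, h2', h3⟩ := exists_tetra O h hO (Or.inl hc)
  have hyO : y ∉ O := fun e => hO (hy ▸ Subgroup.orderOf_dvd_natCard O e)
  have hy3 : y ^ 3 ∈ O := by rw [← hy, pow_orderOf_eq_one]; exact one_mem O
  have hd : y⁻¹ * v⁻¹ * y * v ∈ C := by
    intro a ha
    set d := y⁻¹ * v⁻¹ * y * v with hd
    have key : ∀ a ∈ O, ∀ b ∈ O,
        c (y * (y * v) * a * (y * (y * v))⁻¹) b = c (y * v * y * a * (y * v * y)⁻¹) b := by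
      intro a ha b hb
      calc c (y * (y * v) * a * (y * (y * v))⁻¹) b
          = c (y * y * v * a * (y * y * v)⁻¹) b := by rw [mul_assoc y y v]
        _ = c a (y * y * v * b * (y * y * v)⁻¹) := hself _ h2 h2' a ha b hb
        _ = c a (y * (y * v * b * (y * v)⁻¹) * y⁻¹) := by group
        _ = c (y * a * y⁻¹) (y * v * b * (y * v)⁻¹) := (hself y hyO hy3 a ha _ (hconj _ b hb)).symm
        _ = c (y * v * (y * a * y⁻¹) * (y * v)⁻¹) b :=
          (hself (y * v) h1 h1' _ (hconj y a ha) b hb).symm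
        _ = _ := by group
    set u := y * v * y with hu
    have hu' : y * (y * v) = u * d := by rw [hu, hd]; group
    show d * a * d⁻¹ * a⁻¹ ∈ O ⊓ Subgroup.centralizer (O : Set G)
    refine Subgroup.mem_inf.mpr ⟨mul_mem (hconj d a ha) (inv_mem ha),
      Subgroup.mem_centralizer_iff.mpr fun b hb => ?_⟩
    have hkey := key a ha (u * b * u⁻¹) (hconj u b hb)
    rw [hu'] at hkey
    have e1 : c (d * a * d⁻¹) b = c a b := by
      have cc : ∀ p q : G, c (u * p * u⁻¹) (u * q * u⁻¹) = u * c p q * u⁻¹ := fun p q => by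
        simp only [c]; group
      rw [show u * d * a * (u * d)⁻¹ = u * (d * a * d⁻¹) * u⁻¹ by group, cc, cc] at hkey
      exact mul_left_cancel (mul_right_cancel hkey)
    have e2 : c (d * a * d⁻¹ * a⁻¹) b = 1 := by
      rw [hmul _ (hconj d a ha) _ (inv_mem ha) b hb, e1, ← hmul a ha _ (inv_mem ha) b hb]
      simp [c]
    have e3 : d * a * d⁻¹ * a⁻¹ * b = b * (d * a * d⁻¹ * a⁻¹) :=
      mul_inv_eq_iff_eq_mul.mp (mul_inv_eq_one.mp e2)
    exact e3.symm
  have hOC : O ≤ C := fun o ho a ha => hcm o ho a ha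
  have hC := eq_top_of_quotient O C hOC hd h3
  intro a ha
  have hxa : x * a * x⁻¹ * a⁻¹ ∈ W := (hC ▸ Subgroup.mem_top x : x ∈ C) a ha
  have hI : Inv (QuotientGroup.mk x : G ⧸ W) (O.map f) :=
    ⟨by rw [Subgroup.normalizer_eq_top]; trivial, hO'⟩
  have := hI.eq_one (h.quotient W hW3) (Subgroup.mem_map_of_mem f ha) (by
    show f a * f x = f x * f a
    have h4 : f (x * a * x⁻¹ * a⁻¹) = 1 := (QuotientGroup.eq_one_iff _).mpr hxa
    rw [map_mul, mul_eq_one_iff_eq_inv, map_inv, inv_inv, map_mul, map_inv,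
      mul_inv_eq_iff_eq_mul, map_mul] at h4
    exact h4.symm)
  exact (QuotientGroup.eq_one_iff a).mp this

end CfsgLib.SCThree
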