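import Cfsg.Agent.Lib.SelfCentThree.Structure

/-!
Maximal invariant `3'`-subgroups in a simple group and their normalizers.
-/

set_option autoImplicit false
set_option linter.unusedVariables false

namespace CfsgLib.SCThree

open CfsgLib.SelfCent

universe u

variable {G : Type u} [Group G] [Finite G] {x : G}

/-- The standing assumptions. -/
structure Setup (x : G) : Prop where
  sc : SC x
  simple : IsSimpleGroup G
  noncomm : ¬ IsMulCommutative G
  small : ∀ (H : Subgroup G), H ≠ ⊤ → x ∈ H → Shape H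

/-- A maximal nontrivial invariant `3'`-subgroup. -/
def IsMax (x : G) (M : Subgroup G) : Prop :=
  Inv x M ∧ M ≠ ⊥ ∧ ∀ M' : Subgroup G, Inv x M' → M ≤ M' → M' = M

theorem exists_isMax {M : Subgroup G} (hM : Inv x M) (hne : M ≠ ⊥) :
    ∃ M' : Subgroup G, IsMax x M' ∧ M ≤ M' := by
  obtain ⟨M', ⟨hI, hle⟩, hmax⟩ := (Set.toFinite {N : Subgroup G | Inv x N ∧ M ≤ N}).exists_maximal
    ⟨M, hM, le_rfl⟩
  exact ⟨M', ⟨hI, fun e => hne (le_bot_iff.mp (e ▸ hle)), fun N hN hle' =>
    le_antisymm (hmax ⟨hN, hle.trans hle'⟩ hle') hle'⟩, hle⟩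

theorem Setup.normalizer_ne_top (hs : Setup x) {D : Subgroup G} (hD : Inv x D) (hne : D ≠ ⊥) :
    Subgroup.normalizer (D : Set G) ≠ ⊤ := by
  intro e
  haveI := hs.simple
  rcases (Subgroup.normalizer_eq_top_iff.mp e).eq_bot_or_eq_top with h | h
  · exact hne h
  · exact hD.2 (h ▸ (Subgroup.card_top (G := G)).symm ▸ three_dvd_card hs.sc)

/-- The core of a subgroup, inside the group. -/
def coreIn (H : Subgroup G) : Subgroup G := (core3 H).map H.subtype

theorem card_coreIn (H : Subgroup G) : Nat.card (coreIn H) = Nat.card (core3 H) :=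
  Nat.card_congr (Subgroup.equivMapOfInjective _ _ H.subtype_injective).symm.toEquiv

theorem card_coreIn_mul (H : Subgroup G) :
    Nat.card (coreIn H) * (core3 H).index = Nat.card H := by
  rw [card_coreIn, Subgroup.card_mul_index]

theorem coreIn_le (H : Subgroup G) : coreIn H ≤ H := Subgroup.map_subtype_le _

theorem inv_coreIn {H : Subgroup G} (hx : x ∈ H) : Inv x (coreIn H) :=
  ⟨Subgroup.le_normalizer_map (H := core3 H) H.subtype
      (Subgroup.mem_map_of_mem H.subtype (x := ⟨x, hx⟩) (by
        rw [Subgroup.normalizer_eq_top]; trivial)),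
    by rw [card_coreIn]; exact not_three_dvd_core3⟩

theorem le_coreIn {H N : Subgroup G} (hN : N ≤ H) (hn : H ≤ Subgroup.normalizer (N : Set G))
    (h3 : ¬ 3 ∣ Nat.card N) : N ≤ coreIn H := by
  haveI : (N.subgroupOf H).Normal := Subgroup.normal_subgroupOf_iff_le_normalizer hN |>.mpr hn
  have := le_pPrimeCore (G := H) (p := 3) (N := N.subgroupOf H) inferInstance (by
    rw [Nat.card_congr (Subgroup.subgroupOfEquivOfLe hN).toEquiv]
    exact (Nat.prime_three.coprime_iff_not_dvd.mpr h3).symm)
  intro n hn'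
  exact ⟨⟨n, hN hn'⟩, this hn', rfl⟩

/-- An invariant `3'`-subgroup inside `H` has small image in `H ⧸ O(H)`. -/
theorem inv_image (hs : Setup x) {H M : Subgroup G} (hx : x ∈ H) (hM : Inv x M) (hMH : M ≤ H) :
    ∃ d : ℕ, d % 3 = 1 ∧ d ∣ (core3 H).index ∧ (d = 1 → M ≤ coreIn H) ∧
      ∀ E : Subgroup G, E ≤ M → E ≤ coreIn H → d * Nat.card E ∣ Nat.card M := by
  have hxs := hs.sc.subgroup hx
  have hO := not_three_dvd_core3 (G := H)
  set f := QuotientGroup.mk' (core3 H) with hf
  set Mb := (M.subgroupOf H).map f with hMb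
  have hI : Inv (f ⟨x, hx⟩) Mb := by
    constructor
    · refine Subgroup.le_normalizer_map f (Subgroup.mem_map_of_mem _ ?_)
      rw [Subgroup.mem_normalizer_iff]
      intro m
      exact Subgroup.mem_normalizer_iff.mp hM.1 (m : G)
    · intro hd
      apply hM.2
      rw [← Nat.card_congr (Subgroup.subgroupOfEquivOfLe hMH).toEquiv]
      exact hd.trans (Subgroup.card_map_dvd (H := M.subgroupOf H) f)
  refine ⟨Nat.card Mb, hI.card_mod (hxs.quotient _ hO), ?_, ?_, ?_⟩
  · rw [Subgroup.index_eq_card]; exact Mb.card_subgroup_dvd_card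
  · intro h1 m hm
    rw [Subgroup.card_eq_one] at h1
    refine ⟨⟨m, hMH hm⟩, ?_, rfl⟩
    refine (QuotientGroup.eq_one_iff _).mp ?_
    exact Subgroup.mem_bot.mp (h1 ▸ Subgroup.mem_map_of_mem f (show (⟨m, hMH hm⟩ : H) ∈ _ from hm))
  · intro E hEM hEO
    have h1 := Subgroup.card_mul_index ((f.comp (M.subgroupOf H).subtype).ker)
    rw [Subgroup.index_ker, MonoidHom.range_comp, Subgroup.range_subtype,
      Nat.card_congr (Subgroup.subgroupOfEquivOfLe hMH).toEquiv] at h1
    rw [← h1, mul_comm]
    refine Nat.mul_dvd_mul ?_ (dvd_refl _)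
    let j : E →* (M.subgroupOf H) :=
      { toFun := fun e => ⟨⟨e, hMH (hEM e.2)⟩, hEM e.2⟩
        map_one' := rfl
        map_mul' := fun _ _ => rfl }
    have hj : ∀ e, j e ∈ (f.comp (M.subgroupOf H).subtype).ker := fun e => by
      obtain ⟨h', hh, he⟩ := hEO e.2
      show f _ = 1
      have : (j e : H) = h' := Subtype.ext he.symm
      rw [show (M.subgroupOf H).subtype (j e) = h' from this]
      exact (QuotientGroup.eq_one_iff h').mpr hh
    have hinj : Function.Injective (j.codRestrict _ hj) := fun a b e =>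
      Subtype.ext (congrArg (fun z => (((z : M.subgroupOf H) : H) : G)) (congrArg Subtype.val e))
    exact Subgroup.card_dvd_of_injective _ hinj

theorem Setup.exists_bigger (hs : Setup x) {H : Subgroup G} (hx : x ∈ H)
    (h60 : (core3 H).index = 60) (hsimp : IsSimpleGroup (H ⧸ core3 H)) :
    ∃ M' : Subgroup G, Inv x M' ∧ coreIn H < M' := by
  have hxs := hs.sc.subgroup hx
  have hO := not_three_dvd_core3 (G := H)
  have hc : Nat.card (H ⧸ core3 H) = 60 := by rw [← Subgroup.index_eq_card, h60]
  obtain ⟨Mb, hMb, h2⟩ := exists_even_inv_sixty (Q := H ⧸ core3 H)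
    (CfsgLib.SmallOrder.not_comm_of_not_prime (fun hp => by rw [hc] at hp; norm_num at hp)) hc
    (hxs.quotient _ hO)
  set f := QuotientGroup.mk' (core3 H)
  have hcard : Nat.card ((Mb.comap f).map H.subtype) = Nat.card (core3 H) * Nat.card Mb := by
    rw [← Nat.card_congr (Subgroup.equivMapOfInjective _ _ H.subtype_injective).toEquiv]
    exact QuotientGroup.card_preimage_mk _ _
  refine ⟨(Mb.comap f).map H.subtype, ⟨?_, ?_⟩, ?_⟩
  · refine Subgroup.le_normalizer_map (H := Mb.comap f) H.subtype
      (Subgroup.mem_map_of_mem H.subtype (x := ⟨x, hx⟩) ?_)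
    rw [Subgroup.mem_normalizer_iff]
    intro m
    simp only [Subgroup.mem_comap, map_mul, map_inv]
    exact Subgroup.mem_normalizer_iff.mp hMb.1 (f m)
  · rw [hcard]
    exact fun hd => (Nat.prime_three.dvd_mul.mp hd).elim hO hMb.2
  · refine lt_of_le_of_ne (Subgroup.map_mono (fun o ho => ?_)) fun e => ?_
    · show f o ∈ Mb
      rw [show f o = 1 from (QuotientGroup.eq_one_iff o).mpr ho]; exact one_mem _
    · rw [← e, card_coreIn] at hcard
      have h1 : Nat.card Mb = 1 := by
        have : 0 < Nat.card (core3 H) := Nat.card_pos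
        exact Nat.eq_of_mul_eq_mul_left this (by linarith [hcard])
      rw [h1] at h2; norm_num at h2

/-- The normalizer of `D` has core `M` when `M` normalizes `D ≤ M` suitably. -/
theorem Setup.coreIn_eq (hs : Setup x) {M D : Subgroup G} (hM : IsMax x M) (hD : Inv x D)
    (hne : D ≠ ⊥) (hDM : D ≤ M) (hMN : M ≤ Subgroup.normalizer (D : Set G))
    (hidx : (∀ a ∈ D, a * a = 1) → ∀ d : ℕ, d * Nat.card D ∣ Nat.card M → ¬ 2 ∣ d) :
    coreIn (Subgroup.normalizer (D : Set G)) = M ∧
      ((core3 (Subgroup.normalizer (D : Set G))).index = 3 ∨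
        (core3 (Subgroup.normalizer (D : Set G))).index = 6) := by
  set H := Subgroup.normalizer (D : Set G) with hH
  have hx : x ∈ H := hD.1
  have hDH : D ≤ H := Subgroup.le_normalizer
  have hDO : D ≤ coreIn H := le_coreIn hDH le_rfl hD.2
  obtain ⟨d, hd1, hd2, hd3, hd4⟩ := inv_image hs hx hM.1 hMN
  rcases hs.small H (hs.normalizer_ne_top hD hne) hx with h36 | ⟨h60, hsimp, hcomm, hsq⟩ | ⟨hbot, -⟩
  · refine ⟨hM.2.2 _ (inv_coreIn hx) (hd3 ?_), h36⟩
    have : d ∣ 6 := by
      rcases h36 with e | e <;> rw [e] at hd2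
      · exact hd2.trans (by norm_num)
      · exact hd2
    have hle := Nat.le_of_dvd (by norm_num) this
    interval_cases d <;> omega
  · exfalso
    have hsq' : ∀ a ∈ D, a * a = 1 := fun a ha => by
      obtain ⟨a', ha', rfl⟩ := hDO ha
      exact congrArg Subtype.val (hsq a' ha')
    have hodd := hidx hsq' d (hd4 D hDM hDO)
    rw [h60] at hd2
    have hd : d = 1 := by
      have hle := Nat.le_of_dvd (by norm_num) hd2
      interval_cases d <;> omega
    obtain ⟨M', hM', hlt⟩ := hs.exists_bigger hx h60 hsimp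
    exact (lt_of_le_of_lt (hd3 hd) hlt).ne' (hM.2.2 M' hM' ((hd3 hd).trans hlt.le))
  · exfalso
    apply hne
    rw [← le_bot_iff]
    refine hDO.trans ?_
    rw [coreIn, hbot, Subgroup.map_bot]

theorem Setup.normalizer_max (hs : Setup x) {M : Subgroup G} (hM : IsMax x M) :
    coreIn (Subgroup.normalizer (M : Set G)) = M ∧
      (Nat.card (Subgroup.normalizer (M : Set G)) = 3 * Nat.card M ∨
        Nat.card (Subgroup.normalizer (M : Set G)) = 6 * Nat.card M) := by
  obtain ⟨h1, h2⟩ := hs.coreIn_eq hM hM.1 hM.2.1 le_rfl Subgroup.le_normalizer (fun _ d hd hd2 => by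
    have : d = 1 := by
      have := Nat.le_of_dvd Nat.card_pos hd
      have hp : 0 < Nat.card M := Nat.card_pos
      rcases Nat.lt_or_ge d 2 with hl | hl
      · rcases (show d = 0 ∨ d = 1 by omega) with rfl | rfl
        · simp only [Nat.zero_mul, zero_dvd_iff] at hd; omega
        · rfl
      · nlinarith
    rw [this] at hd2; norm_num at hd2)
  refine ⟨h1, ?_⟩
  have hc := card_coreIn_mul (Subgroup.normalizer (M : Set G))
  rw [h1] at hc
  rcases h2 with e | e <;> rw [e] at hc
  · left; omega
  · right; omega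

section Part

variable (p : ℕ) [Fact p.Prime]

/-- The Sylow `p`-part of a subgroup. -/
noncomputable def part (M : Subgroup G) : Subgroup G :=
  ((Classical.arbitrary (Sylow p M) : Sylow p M) : Subgroup M).map M.subtype

theorem part_le (M : Subgroup G) : part p M ≤ M := Subgroup.map_subtype_le _

theorem card_part (M : Subgroup G) : Nat.card (part p M) = p ^ (Nat.card M).factorization p := by
  rw [part, ← Nat.card_congr (Subgroup.equivMapOfInjective _ _ M.subtype_injective).toEquiv]
  exact Sylow.card_eq_multiplicity _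

theorem isPGroup_part (M : Subgroup G) : IsPGroup p (part p M) := IsPGroup.of_card (card_part p M)

theorem le_part {M S : Subgroup G} [Group.IsNilpotent M] (hS : S ≤ M) (hp : IsPGroup p S) :
    S ≤ part p M := by
  let P₀ : Sylow p M := Classical.arbitrary _
  haveI : (P₀ : Subgroup M).Normal := CfsgLib.Splitting.sylow_normal_of_isNilpotent inferInstance P₀
  obtain ⟨Q, hQ⟩ := (hp.comap_of_injective M.subtype M.subtype_injective).exists_le_sylow
  haveI := Sylow.unique_of_normal P₀ inferInstance
  intro s hs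
  have he : (Q : Subgroup M) = P₀ := by rw [Subsingleton.elim Q P₀]
  refine ⟨⟨s, hS hs⟩, ?_, rfl⟩
  show (⟨s, hS hs⟩ : M) ∈ (P₀ : Subgroup M)
  rw [← he]; exact hQ (show (⟨s, hS hs⟩ : M) ∈ S.comap M.subtype from hs)

theorem normalizer_le_part (h : SC x) {M : Subgroup G} (hM : Inv x M) :
    Subgroup.normalizer (M : Set G) ≤ Subgroup.normalizer (part p M : Set G) := by
  haveI := hM.isNilpotent h
  intro g hg
  rw [Subgroup.mem_normalizer_iff_map_conj_eq] at hg ⊢
  refine Subgroup.eq_of_le_of_card_ge (le_part p ?_ ((isPGroup_part p M).map _))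
    (le_of_eq (Nat.card_congr (Subgroup.equivMapOfInjective _ _ (MulAut.conj g).injective).toEquiv))
  exact (Subgroup.map_mono (part_le p M)).trans (le_of_eq hg)

theorem inv_part (h : SC x) {M : Subgroup G} (hM : Inv x M) : Inv x (part p M) :=
  ⟨normalizer_le_part p h hM hM.1, fun hd => hM.2 (hd.trans (Subgroup.card_dvd_of_le (part_le p M)))⟩

theorem part_ne_bot {M : Subgroup G} (hp : p ∣ Nat.card M) : part p M ≠ ⊥ := by
  intro e
  have h1 := card_part p M
  rw [e, Subgroup.card_bot] at h1
  have := Nat.Prime.factorization_pos_of_dvd Fact.out Nat.card_pos.ne' hp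
  have := Nat.one_lt_pow this.ne' (Fact.out : p.Prime).one_lt
  omega

theorem not_dvd_of_mul_part {M : Subgroup G} {d : ℕ} (hd : d * Nat.card (part p M) ∣ Nat.card M) :
    ¬ p ∣ d := by
  rintro ⟨e, rfl⟩
  rw [card_part] at hd
  have : p ^ ((Nat.card M).factorization p + 1) ∣ Nat.card M :=
    (Dvd.intro e (by ring)).trans hd
  exact Nat.pow_succ_factorization_not_dvd Nat.card_pos.ne' Fact.out this

/-- The normalizer of a nontrivial Sylow part is the normalizer of `M`. -/
theorem Setup.normalizer_part (hs : Setup x) {M : Subgroup G} (hM : IsMax x M)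
    (hp : p ∣ Nat.card M) :
    Subgroup.normalizer (part p M : Set G) = Subgroup.normalizer (M : Set G) := by
  refine le_antisymm ?_ (normalizer_le_part p hs.sc hM.1)
  obtain ⟨h1, -⟩ := hs.coreIn_eq hM (inv_part p hs.sc hM.1) (part_ne_bot p hp) (part_le p M)
    (Subgroup.le_normalizer.trans (normalizer_le_part p hs.sc hM.1)) (fun hsq d hd => by
      rcases eq_or_ne p 2 with rfl | hp2
      · exact not_dvd_of_mul_part 2 hd
      · exfalso
        apply part_ne_bot p hp
        rw [Subgroup.eq_bot_iff_forall]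
        intro a ha
        obtain ⟨k, hk⟩ := (isPGroup_part p M) ⟨a, ha⟩
        have hk' : a ^ p ^ k = 1 := congrArg Subtype.val hk
        have h2 : a ^ 2 = 1 := by rw [pow_two]; exact hsq a ha
        have := Nat.dvd_gcd (orderOf_dvd_of_pow_eq_one hk') (orderOf_dvd_of_pow_eq_one h2)
        rw [Nat.Coprime.gcd_eq_one (Nat.Coprime.pow_left k
          ((Nat.coprime_primes Fact.out Nat.prime_two).mpr hp2)), Nat.dvd_one] at this
        exact orderOf_eq_one_iff.mp this)
  set H := Subgroup.normalizer (part p M : Set G)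
  calc H = (⊤ : Subgroup H).map H.subtype := by rw [← MonoidHom.range_eq_map, Subgroup.range_subtype]
    _ ≤ (Subgroup.normalizer (core3 H : Set H)).map H.subtype := by
        rw [Subgroup.normalizer_eq_top]
    _ ≤ Subgroup.normalizer ((coreIn H : Subgroup G) : Set G) := Subgroup.le_normalizer_map _
    _ = _ := by rw [h1]

end Part

end CfsgLib.SCThree
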