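import Cfsg.Agent.Lib.SelfCentThree.Basic

/-!
The action on an abelian normal subgroup of order prime to three.
-/

set_option autoImplicit false
set_option linter.unusedVariables false

open scoped BigOperators IsMulCommutative

namespace CfsgLib.SCThree

open CfsgLib.SelfCent

theorem cube_of_quad {R : Type*} [Ring R] {a : R} (h : a * a + a + 1 = 0) : a * a * a = 1 := by
  have : a * a * a - 1 = (a - 1) * (a * a + a + 1) := by noncomm_ring
  rw [h, mul_zero, sub_eq_zero] at this
  exact this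

theorem two_of_tetra {R : Type*} [Ring R] {a v : R} (ha : a * a + a + 1 = 0) (hv : v * v = 1)
    (hb : (a * v) * (a * v) + a * v + 1 = 0) (hc : (a * a * v) * (a * a * v) + a * a * v + 1 = 0) :
    v + v = 1 + 1 := by
  have ha3 := cube_of_quad ha
  have e1 : (a * v) * (a * v) = v * (a * a) := by
    have h3 := cube_of_quad hb
    calc (a * v) * (a * v) = (a * v) * (a * v) * (a * (v * v) * (a * a)) := by
          rw [hv, mul_one, ← mul_assoc a a a, ha3, mul_one]
      _ = ((a * v) * (a * v) * (a * v)) * (v * (a * a)) := by noncomm_ring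
      _ = v * (a * a) := by rw [h3, one_mul]
  have e2 : (a * a * v) * (a * a * v) = v * a := by
    have h3 := cube_of_quad hc
    calc (a * a * v) * (a * a * v) = (a * a * v) * (a * a * v) * (a * a * (v * v) * a) := by
          rw [hv, mul_one, ha3, mul_one]
      _ = ((a * a * v) * (a * a * v) * (a * a * v)) * (v * a) := by noncomm_ring
      _ = v * a := by rw [h3, one_mul]
  rw [e1] at hb; rw [e2] at hc
  have h4 : a * a + a = -1 := eq_neg_of_add_eq_zero_left ha
  have : v * (a * a + a) + (a * a + a) * v + (1 + 1) = 0 := by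
    calc v * (a * a + a) + (a * a + a) * v + (1 + 1)
        = (v * (a * a) + a * v + 1) + (v * a + a * a * v + 1) := by noncomm_ring
      _ = 0 := by rw [hb, hc, add_zero]
  rw [h4] at this
  rw [← sub_eq_zero, ← neg_eq_zero, ← this]
  noncomm_ring

theorem seven_of_frobenius {R : Type*} [Ring R] {a b : R} {m : ℕ} (hm : ((m : ZMod 7) + 1) ≠ 0)
    (hab : b * a = a * b ^ m) (hb7 : b ^ 7 = 1) (ha : a * a + a + 1 = 0)
    (hj : ∀ j : ZMod 7, (a * b ^ j.val) * (a * b ^ j.val) + a * b ^ j.val + 1 = 0) :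
    (b - 1) * (7 : R) = 0 := by
  haveI : Fact (Nat.Prime 7) := ⟨by norm_num⟩
  have hmod : ∀ n : ℕ, b ^ n = b ^ ((n : ZMod 7)).val := fun n => by
    rw [ZMod.val_natCast]; exact pow_eq_pow_mod n hb7
  have hcomm : ∀ n : ℕ, b ^ n * a = a * b ^ (m * n) := fun n => by
    induction n with
    | zero => simp
    | succ n ih => rw [pow_succ, mul_assoc, hab, ← mul_assoc, ih, mul_assoc, ← pow_add, mul_add_one]
  have hsq : ∀ j : ZMod 7, (a * b ^ j.val) * (a * b ^ j.val) =
      a * a * b ^ ((((m : ZMod 7) + 1) * j).val) := fun j => by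
    calc (a * b ^ j.val) * (a * b ^ j.val) = a * (b ^ j.val * a) * b ^ j.val := by noncomm_ring
      _ = a * a * b ^ (m * j.val + j.val) := by rw [hcomm, pow_add]; noncomm_ring
      _ = _ := by
        rw [hmod (m * j.val + j.val)]
        congr 3
        push_cast
        rw [ZMod.natCast_zmod_val]
        ring
  have hs := Finset.sum_eq_zero (s := (Finset.univ : Finset (ZMod 7))) (fun j _ => hj j)
  rw [Finset.sum_add_distrib, Finset.sum_add_distrib] at hs
  set N := ∑ j : ZMod 7, b ^ j.val with hN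
  have hre : ∑ j : ZMod 7, b ^ ((((m : ZMod 7) + 1) * j).val) = N :=
    Fintype.sum_bijective _ (Equiv.mulLeft₀ _ hm).bijective _ _ (fun j => rfl)
  simp only [hsq, ← Finset.mul_sum, hre, ← hN] at hs
  simp only [Finset.sum_const, Finset.card_univ, ZMod.card, nsmul_eq_mul, mul_one] at hs
  have hbN : b * N = N := by
    rw [hN, Finset.mul_sum]
    refine Fintype.sum_bijective _ (Equiv.addRight (1 : ZMod 7)).bijective _ _ (fun j => ?_)
    rw [← pow_succ', hmod (j.val + 1)]
    congr 1
  have h4 : a * a + a = -1 := eq_neg_of_add_eq_zero_left ha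
  rw [← add_mul, h4, neg_one_mul, neg_add_eq_zero] at hs
  calc (b - 1) * (7 : R) = (b - 1) * ((7 : ℕ) : R) := by norm_num
    _ = 0 := by rw [← hs, sub_mul, one_mul, hbN, sub_self]

variable {G : Type*} [Group G] [Finite G] {x : G}

/-- Conjugation on an abelian normal subgroup, as additive endomorphisms. -/
noncomputable def actEnd (W : Subgroup G) [W.Normal] [IsMulCommutative W] :
    G →* AddMonoid.End (Additive W) where
  toFun g := (MonoidHom.toAdditive (MulAut.conjNormal (H := W) g).toMonoidHom)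
  map_one' := AddMonoidHom.ext fun w => congrArg Additive.ofMul (Subtype.ext (by
    obtain ⟨w, rfl⟩ := Additive.ofMul.surjective w
    show ((MulAut.conjNormal (1 : G) w : W) : G) = w
    simp))
  map_mul' a b := AddMonoidHom.ext fun w => congrArg Additive.ofMul (Subtype.ext (by
    obtain ⟨w, rfl⟩ := Additive.ofMul.surjective w
    show ((MulAut.conjNormal (a * b) w : W) : G) =
      ((MulAut.conjNormal a (MulAut.conjNormal b w) : W) : G)
    simp [map_mul]))

/-- Evaluation in the group. -/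
noncomputable def ev {W : Subgroup G} [IsMulCommutative W] (f : AddMonoid.End (Additive W)) (w : W) :
    G :=
  ((Additive.toMul (α := W) (f (Additive.ofMul w))) : G)

theorem ext_ev {W : Subgroup G} [IsMulCommutative W] {f g : AddMonoid.End (Additive W)}
    (e : ∀ w : W, ev f w = ev g w) : f = g :=
  AddMonoidHom.ext fun w => Additive.toMul.injective (Subtype.ext (e (Additive.toMul w)))

theorem actEnd_apply (W : Subgroup G) [W.Normal] [IsMulCommutative W] (g : G) (w : W) :
    ev (actEnd W g) w = g * w * g⁻¹ :=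
  MulAut.conjNormal_apply g w

theorem actEnd_eq_of_mem {W K : Subgroup G} [W.Normal] [IsMulCommutative W]
    (hKW : K ≤ Subgroup.centralizer (W : Set G)) {g k : G} (hk : k ∈ K) :
    actEnd W (g * k) = actEnd W g := by
  refine ext_ev fun w => ?_
  rw [actEnd_apply, actEnd_apply]
  have := Subgroup.mem_centralizer_iff.mp (hKW hk) w w.2
  calc g * k * w * (g * k)⁻¹ = g * (k * (w : G)) * k⁻¹ * g⁻¹ := by group
    _ = g * ((w : G) * k) * k⁻¹ * g⁻¹ := by rw [this]
    _ = _ := by group

theorem quad_of_order_three (h : SC x) (W : Subgroup G) [W.Normal] [IsMulCommutative W]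
    (hW : ¬ 3 ∣ Nat.card W) {y : G} (hy : orderOf y = 3) :
    actEnd W y * actEnd W y + actEnd W y + 1 = 0 := by
  refine ext_ev fun w => ?_
  have hI : Inv y W := ⟨by rw [Subgroup.normalizer_eq_top]; trivial, hW⟩
  let u : W := ⟨y * w * y⁻¹, hI.conj_mem w.2⟩
  let u' : W := ⟨y * (y * w * y⁻¹) * y⁻¹, hI.conj_mem u.2⟩
  have e1 : Additive.toMul (α := W) (actEnd W y (Additive.ofMul w)) = u :=
    Subtype.ext (actEnd_apply W y w)
  have e2 : Additive.toMul (α := W) (actEnd W y (Additive.ofMul u)) = u' :=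
    Subtype.ext (actEnd_apply W y u)
  have h1 := hI.identity (h.of_orderOf hy) w.2
  show ((((Additive.toMul (α := W) (actEnd W y (Additive.ofMul
    (Additive.toMul (α := W) (actEnd W y (Additive.ofMul w)))))) *
    (Additive.toMul (α := W) (actEnd W y (Additive.ofMul w))) * w : W)) : G) = 1
  rw [e1, e2]
  have hc : ∀ a b : W, a * b = b * a := fun a b => IsMulCommutative.is_comm.comm a b
  have key : (w * u * u' : W) = 1 := Subtype.ext h1
  rw [hc _ w, hc u' u, ← mul_assoc, key]
  rfl

/-- The quadratic relation for elements of order three modulo a subgroup centralizing `W`. -/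
theorem quad_mod (h : SC x) (W K : Subgroup G) [W.Normal] [IsMulCommutative W] [K.Normal]
    (hW : ¬ 3 ∣ Nat.card W) (hK : ¬ 3 ∣ Nat.card K) (hKW : K ≤ Subgroup.centralizer (W : Set G))
    {g : G} (hg : g ∉ K) (hg3 : g ^ 3 ∈ K) :
    actEnd W g * actEnd W g + actEnd W g + 1 = 0 := by
  set k := Nat.card K with hk
  have h3k : (g ^ k) ^ 3 = 1 := by
    rw [← pow_mul, mul_comm, pow_mul]
    have : (⟨g ^ 3, hg3⟩ : K) ^ k = 1 := pow_card_eq_one'
    exact congrArg Subtype.val this
  have hgk : g ^ k ∉ K := by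
    intro hmem
    apply hg
    have hr : g ^ (k % 3) ∈ K := by
      rw [← Nat.div_add_mod k 3, pow_add, pow_mul] at hmem
      exact (Subgroup.mul_mem_cancel_left K (pow_mem hg3 _)).mp hmem
    have : k % 3 < 3 := Nat.mod_lt _ (by norm_num)
    have h0 : k % 3 ≠ 0 := fun e => hK (Nat.dvd_of_mod_eq_zero e)
    interval_cases hh : k % 3
    · exact absurd rfl h0
    · simpa using hr
    · have := mul_mem hg3 (inv_mem hr)
      simpa [pow_succ, mul_assoc] using this
  have hy : orderOf (g ^ k) = 3 := by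
    refine orderOf_eq_prime h3k fun e => hgk (e ▸ one_mem K)
  have hq := quad_of_order_three h W hW hy
  have hq' := quad_of_order_three h W hW (y := (g ^ k)⁻¹) (by rw [orderOf_inv, hy])
  have hr : g ^ (k % 3) * (g ^ 3) ^ (k / 3) = g ^ k := by
    rw [← pow_mul, ← pow_add, Nat.mod_add_div]
  have hφ : actEnd W (g ^ k) = actEnd W (g ^ (k % 3)) := by
    rw [← hr]; exact actEnd_eq_of_mem hKW (pow_mem hg3 _)
  have hφi : actEnd W (g ^ k)⁻¹ = actEnd W (g ^ (3 - k % 3)) := by
    have : (g ^ k)⁻¹ = g ^ (3 - k % 3) * ((g ^ 3) ^ (k / 3 + 1))⁻¹ := by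
      rw [eq_mul_inv_iff_mul_eq, ← pow_mul, inv_mul_eq_iff_eq_mul, ← pow_add]
      congr 1
      have := Nat.mod_add_div k 3
      have : k % 3 < 3 := Nat.mod_lt _ (by norm_num)
      omega
    rw [this]; exact actEnd_eq_of_mem hKW (inv_mem (pow_mem hg3 _))
  have : k % 3 < 3 := Nat.mod_lt _ (by norm_num)
  have h0 : k % 3 ≠ 0 := fun e => hK (Nat.dvd_of_mod_eq_zero e)
  rw [hφ] at hq
  rw [hφi] at hq'
  interval_cases hh : k % 3
  · exact absurd rfl h0
  · simpa using hq
  · simpa using hq'

variable (W K : Subgroup G) [W.Normal] [IsMulCommutative W] [K.Normal]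

theorem commute_pow_of_eq {g : G} {n : ℕ} (he : actEnd W g * (n : AddMonoid.End (Additive W)) = n)
    {w : G} (hw : w ∈ W) : g * w ^ n = w ^ n * g := by
  have e : ∀ v : W, ev (n : AddMonoid.End (Additive W)) v = (v : G) ^ n := fun v => rfl
  have h1 : ev (actEnd W g * (n : AddMonoid.End (Additive W))) ⟨w, hw⟩ =
      ev (n : AddMonoid.End (Additive W)) ⟨w, hw⟩ := by rw [he]
  have h2 : ev (actEnd W g * (n : AddMonoid.End (Additive W))) ⟨w, hw⟩ =
      ev (actEnd W g) (⟨w, hw⟩ ^ n) := rfl
  rw [h2, actEnd_apply, e, SubmonoidClass.coe_pow] at h1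
  exact mul_inv_eq_iff_eq_mul.mp h1

/-- A four group inverts no module: `v` centralizes squares. -/
theorem commute_sq (h : SC x) (hW : ¬ 3 ∣ Nat.card W) (hK : ¬ 3 ∣ Nat.card K)
    (hKW : K ≤ Subgroup.centralizer (W : Set G)) {y v : G} (hy : orderOf y = 3) (hv : v * v ∈ K)
    (h1 : y * v ∉ K) (h1' : (y * v) ^ 3 ∈ K) (h2 : y * y * v ∉ K) (h2' : (y * y * v) ^ 3 ∈ K)
    {w : G} (hw : w ∈ W) : v * w ^ 2 = w ^ 2 * v := by
  refine commute_pow_of_eq W ?_ hw
  have hv1 : actEnd W v * actEnd W v = 1 := by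
    rw [← map_mul, ← one_mul (v * v), actEnd_eq_of_mem hKW hv, map_one]
  have := two_of_tetra (quad_of_order_three h W hW hy) hv1
    (by have := quad_mod h W K hW hK hKW h1 h1'; rwa [map_mul] at this)
    (by have := quad_mod h W K hW hK hKW h2 h2'; rwa [map_mul, map_mul] at this)
  rw [Nat.cast_ofNat, show (2 : AddMonoid.End (Additive W)) = 1 + 1 from one_add_one_eq_two.symm,
    mul_add, mul_one]
  exact this

/-- An element of order seven with Frobenius action centralizes seventh powers. -/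
theorem commute_pow_seven (h : SC x) (hW : ¬ 3 ∣ Nat.card W) (hK : ¬ 3 ∣ Nat.card K)
    (hKW : K ≤ Subgroup.centralizer (W : Set G)) {y s : G} {m : ℕ} (hm : ((m : ZMod 7) + 1) ≠ 0)
    (hy : orderOf y = 3) (hs : s ^ 7 ∈ K) (hys : (y * s ^ m)⁻¹ * (s * y) ∈ K)
    (h1 : ∀ j : ℕ, j < 7 → y * s ^ j ∉ K ∧ (y * s ^ j) ^ 3 ∈ K)
    {w : G} (hw : w ∈ W) : s * w ^ 7 = w ^ 7 * s := by
  refine commute_pow_of_eq W ?_ hw
  have h7 : actEnd W s ^ 7 = 1 := by
    rw [← map_pow, ← one_mul (s ^ 7), actEnd_eq_of_mem hKW hs, map_one]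
  have hab : actEnd W s * actEnd W y = actEnd W y * actEnd W s ^ m := by
    rw [← map_mul, ← map_pow, ← map_mul]
    have e : s * y = (y * s ^ m) * ((y * s ^ m)⁻¹ * (s * y)) := by group
    rw [e, actEnd_eq_of_mem hKW hys]
  have := seven_of_frobenius hm hab h7 (quad_of_order_three h W hW hy) (fun j => by
    have := quad_mod h W K hW hK hKW (h1 j.val j.val_lt).1 (h1 j.val j.val_lt).2
    rwa [map_mul, map_pow] at this)
  rw [sub_mul, one_mul, sub_eq_zero] at this
  exact_mod_cast this

end CfsgLib.SCThree
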