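import Cfsg.Agent.Lib.SelfCentThree.Half

/-!
Even maximal invariant subgroups seen in one Sylow 2-subgroup.
-/

set_option autoImplicit false
set_option linter.unusedVariables false

namespace CfsgLib.SCThree

open CfsgLib.SelfCent

universe u

variable {G : Type u} [Group G] [Finite G]

/-- The conjugate of a subgroup. -/
abbrev cj (g : G) (H : Subgroup G) : Subgroup G := H.map (MulAut.conj g).toMonoidHom

theorem card_cj (g : G) (H : Subgroup G) : Nat.card (cj g H) = Nat.card H :=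
  (Nat.card_congr (Subgroup.equivMapOfInjective _ _ (MulAut.conj g).injective).toEquiv).symm

theorem cj_cj (g k : G) (H : Subgroup G) : cj g (cj k H) = cj (g * k) H := by
  rw [cj, cj, cj, Subgroup.map_map]
  congr 1
  ext a
  simp [mul_assoc]

theorem mem_cj {g a : G} {H : Subgroup G} : a ∈ cj g H ↔ g⁻¹ * a * g ∈ H := by
  constructor
  · rintro ⟨b, hb, rfl⟩
    simpa [mul_assoc] using hb
  · intro h
    exact ⟨g⁻¹ * a * g, h, by simp [mul_assoc]⟩

theorem cj_one (H : Subgroup G) : cj (1 : G) H = H := by ext a; simp [mem_cj]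

theorem mem_normalizer_cj {g a : G} {H : Subgroup G} :
    a ∈ Subgroup.normalizer (cj g H : Set G) ↔ g⁻¹ * a * g ∈ Subgroup.normalizer (H : Set G) := by
  rw [Subgroup.mem_normalizer_iff_map_conj_eq, Subgroup.mem_normalizer_iff_map_conj_eq]
  show cj a (cj g H) = cj g H ↔ cj (g⁻¹ * a * g) H = H
  constructor
  · intro e
    have := congrArg (cj g⁻¹) e
    rwa [cj_cj, cj_cj, cj_cj, inv_mul_cancel, cj_one] at this
  · intro e
    have := congrArg (cj g) e
    rwa [cj_cj, show g * (g⁻¹ * a * g) = a * g by group, ← cj_cj] at this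

/-- A conjugate of an even maximal invariant subgroup's 2-part, inside `P`. -/
structure Piece (P D : Subgroup G) (y : G) : Prop where
  le : D ≤ P
  two_group : IsPGroup 2 P
  ne_bot : D ≠ ⊥
  sc : SC y
  inv : Inv y D
  self : ∀ p ∈ P, (∀ d ∈ D, p * d = d * p) → p ∈ D
  norm_le : Nat.card (P ⊓ Subgroup.normalizer (D : Set G) : Subgroup G) ≤ 2 * Nat.card D
  three_dvd : ∀ τ ∈ P ⊓ Subgroup.normalizer (D : Set G), τ ∉ D →
    3 ∣ orderOf (τ⁻¹ * (y * τ * y⁻¹))

theorem Piece.conj {P D : Subgroup G} {y : G} (h : Piece P D y) (g : G) :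
    Piece (cj g P) (cj g D) (g * y * g⁻¹) := by
  refine ⟨Subgroup.map_mono h.le, h.two_group.map _, ?_,
    h.sc.of_orderOf (by rw [← h.sc.2.1, ← MulAut.conj_apply, MulEquiv.orderOf_eq]),
    ⟨mem_normalizer_cj.mpr (by simpa [mul_assoc] using h.inv.1), by rw [card_cj]; exact h.inv.2⟩,
    ?_, ?_, ?_⟩
  · rw [Ne, Subgroup.map_eq_bot_iff_of_injective _ (MulAut.conj g).injective]; exact h.ne_bot
  · intro p hp hc
    rw [mem_cj] at hp ⊢
    refine h.self _ hp fun d hd => ?_
    have := hc (g * d * g⁻¹) (mem_cj.mpr (by simpa [mul_assoc] using hd))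
    calc g⁻¹ * p * g * d = g⁻¹ * (p * (g * d * g⁻¹)) * g := by group
      _ = g⁻¹ * (g * d * g⁻¹ * p) * g := by rw [this]
      _ = _ := by group
  · have e : cj g P ⊓ Subgroup.normalizer (cj g D : Set G) =
        cj g (P ⊓ Subgroup.normalizer (D : Set G)) := by
      ext a
      rw [Subgroup.mem_inf, mem_normalizer_cj, mem_cj, mem_cj, Subgroup.mem_inf]
    rw [e, card_cj, card_cj]; exact h.norm_le
  · intro τ hτ hn
    rw [Subgroup.mem_inf, mem_normalizer_cj, mem_cj] at hτ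
    rw [mem_cj] at hn
    have key := h.three_dvd _ (Subgroup.mem_inf.mpr hτ) hn
    have e : τ⁻¹ * (g * y * g⁻¹ * τ * (g * y * g⁻¹)⁻¹) =
        MulAut.conj g ((g⁻¹ * τ * g)⁻¹ * (y * (g⁻¹ * τ * g) * y⁻¹)) := by
      simp [mul_assoc]
    rw [e, MulEquiv.orderOf_eq]
    exact key

theorem Piece.one_lt {P D : Subgroup G} {y : G} (h : Piece P D y) : 4 ≤ Nat.card D := by
  haveI : Fact (Nat.Prime 2) := ⟨Nat.prime_two⟩
  obtain ⟨k, hk⟩ := IsPGroup.iff_card.mp (h.two_group.to_le h.le)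
  have h1 := h.inv.card_mod h.sc
  have h0 : k ≠ 0 := fun e => h.ne_bot (Subgroup.card_eq_one.mp (by rw [hk, e]; rfl))
  rcases Nat.lt_or_ge k 2 with hl | hl
  · rw [hk, show k = 1 by omega] at h1; norm_num at h1
  · rw [hk]; calc 4 = 2 ^ 2 := rfl
      _ ≤ 2 ^ k := Nat.pow_le_pow_right (by norm_num) hl

theorem le_normInf {P D : Subgroup G} (h : D ≤ P) :
    D ≤ P ⊓ Subgroup.normalizer (D : Set G) := le_inf h Subgroup.le_normalizer

theorem eq_of_normInf_eq {P D : Subgroup G} (hP : IsPGroup 2 P) (hD : D ≤ P)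
    (he : P ⊓ Subgroup.normalizer (D : Set G) = D) : D = P := by
  haveI : Fact (Nat.Prime 2) := ⟨Nat.prime_two⟩
  haveI : Group.IsNilpotent P := hP.isNilpotent
  by_contra hne
  have hlt : D.subgroupOf P < ⊤ := lt_top_iff_ne_top.mpr fun e =>
    hne (le_antisymm hD (Subgroup.subgroupOf_eq_top.mp e))
  have := Group.normalizerCondition_of_isNilpotent _ hlt
  obtain ⟨a, ha, han⟩ := SetLike.exists_of_lt this
  apply han
  have : (a : G) ∈ P ⊓ Subgroup.normalizer (D : Set G) := by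
    refine Subgroup.mem_inf.mpr ⟨a.2, ?_⟩
    rw [Subgroup.mem_normalizer_iff]
    intro z
    have h1 := Subgroup.mem_normalizer_iff.mp ha
    constructor
    · intro hz
      exact (h1 ⟨z, hD hz⟩).mp hz
    · intro hz
      have hzP : z ∈ P := by
        have := mul_mem (mul_mem (inv_mem a.2) (hD hz)) a.2
        simpa [mul_assoc] using this
      exact (h1 ⟨z, hzP⟩).mpr hz
  rw [he] at this
  exact this

theorem Piece.half {P D : Subgroup G} {y : G} (h : Piece P D y)
    (hne : P ⊓ Subgroup.normalizer (D : Set G) ≠ D) :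
    Half (P ⊓ Subgroup.normalizer (D : Set G)) D y := by
  refine ⟨le_normInf h.le, ?_, h.two_group.to_le inf_le_left, h.sc, h.inv, h.three_dvd⟩
  obtain ⟨e, he⟩ := Subgroup.card_dvd_of_le (le_normInf h.le)
  have h2 := h.norm_le
  have hp : 0 < Nat.card D := Nat.card_pos
  have h1 : e ≠ 1 := fun e1 => hne (Subgroup.eq_of_le_of_card_ge (le_normInf h.le)
    (by rw [he, e1, mul_one])).symm
  have he0 : e ≠ 0 := by
    rintro rfl; rw [mul_zero] at he; exact absurd he Nat.card_pos.ne'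
  have : e ≤ 2 := by nlinarith
  rw [he, show e = 2 by omega, mul_comm]

/-- A piece of order more than four is normal of index at most two. -/
theorem Piece.top {P D : Subgroup G} {y : G} (h : Piece P D y) (h4 : 4 < Nat.card D) :
    D = P ∨ Half P D y := by
  by_cases he : P ⊓ Subgroup.normalizer (D : Set G) = D
  · exact Or.inl (eq_of_normInf_eq h.two_group h.le he)
  right
  have hT := h.half he
  set T := P ⊓ Subgroup.normalizer (D : Set G) with hTdef
  suffices T = P by rw [← this]; exact hT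
  refine eq_of_normInf_eq h.two_group inf_le_left (le_antisymm ?_ (le_normInf inf_le_left))
  intro a ha
  obtain ⟨haP, haN⟩ := Subgroup.mem_inf.mp ha
  refine Subgroup.mem_inf.mpr ⟨haP, ?_⟩
  rw [Subgroup.mem_normalizer_iff_map_conj_eq] at haN ⊢
  replace haN : T.map (MulAut.conj a).toMonoidHom = T := haN
  by_contra hne
  have := hT.conj a
  rw [haN] at this
  have := this.card_le_four hT hne
  rw [show Nat.card (D.map (MulAut.conj a).toMonoidHom) = Nat.card D from card_cj a D] at this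
  omega

theorem klein_of_piece {P V : Subgroup G} {y : G} (h : Piece P V y) (h4 : Nat.card V = 4) :
    (∀ v ∈ V, v * v = 1) ∧ ∀ a ∈ V, ∀ b ∈ V, a * b = b * a := by
  have hexp : ∀ v ∈ V, v * v = 1 := by
    intro v hv
    by_contra hv2
    have hd := Subgroup.orderOf_dvd_natCard V hv
    rw [h4] at hd
    have ho : orderOf v = 4 := by
      have := Nat.le_of_dvd (by norm_num) hd
      have h2 : orderOf v ≠ 2 := fun e => hv2 (by have := pow_orderOf_eq_one v; rwa [e, pow_two] at this)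
      have h1 : orderOf v ≠ 1 := fun e => hv2 (by rw [orderOf_eq_one_iff] at e; rw [e, one_mul])
      have h0 : orderOf v ≠ 3 := fun e => by rw [e] at hd; norm_num at hd
      have := orderOf_pos v
      omega
    have hgen : Subgroup.zpowers v = V := Subgroup.eq_of_le_of_card_ge
      (Subgroup.zpowers_le.mpr hv) (by rw [Nat.card_zpowers, ho, h4])
    have hfix : v * v = y * (v * v) * y⁻¹ := by
      have h1 := h.inv.conj_mem hv
      rw [← hgen] at h1
      obtain ⟨k, hk⟩ := Subgroup.mem_zpowers_iff.mp h1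
      have e4 : v ^ (4 : ℤ) = 1 := by
        have := pow_orderOf_eq_one v; rw [ho] at this; exact_mod_cast this
      have e : y * (v * v) * y⁻¹ = v ^ (k + k) := by
        rw [zpow_add, hk]; group
      rcases Int.even_or_odd k with ⟨j, rfl⟩ | ⟨j, rfl⟩
      · exfalso
        apply hv2
        rw [show j + j + (j + j) = 4 * j by ring, zpow_mul, e4, one_zpow] at e
        exact conj_eq_one_iff.mp e
      · rw [show (2 * j + 1) + (2 * j + 1) = 4 * j + 2 by ring, zpow_add, zpow_mul, e4, one_zpow,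
          one_mul] at e
        rw [e, zpow_two]
    exact hv2 (h.inv.eq_one h.sc (mul_mem hv hv) (mul_inv_eq_iff_eq_mul.mp hfix.symm).symm)
  refine ⟨hexp, fun a ha b hb => ?_⟩
  have h1 := hexp (a * b) (mul_mem ha hb)
  calc a * b = (a * b)⁻¹ := eq_inv_of_mul_eq_one_left h1
    _ = b⁻¹ * a⁻¹ := mul_inv_rev a b
    _ = b * a := by rw [inv_eq_of_mul_eq_one_left (hexp b hb), inv_eq_of_mul_eq_one_left (hexp a ha)]

theorem exists_center_mem {P D : Subgroup G} (hP : IsPGroup 2 P) (hD : D ≤ P) (hne : D ≠ ⊥)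
    (hn : ∀ p ∈ P, p ∈ Subgroup.normalizer (D : Set G)) :
    ∃ e ∈ D, e ≠ 1 ∧ ∀ p ∈ P, p * e = e * p := by
  haveI : Fact (Nat.Prime 2) := ⟨Nat.prime_two⟩
  haveI : (D.subgroupOf P).Normal :=
    (Subgroup.normal_subgroupOf_iff_le_normalizer hD).mpr hn
  have hne' : D.subgroupOf P ≠ ⊥ := fun e => by
    rw [Subgroup.subgroupOf_eq_bot, disjoint_iff, inf_eq_left.mpr hD] at e
    exact hne e
  have := normal_inf_center hP (D.subgroupOf P) hne'
  obtain ⟨⟨e, he⟩, he1⟩ := Subgroup.ne_bot_iff_exists_ne_one.mp this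
  exact ⟨e, he.1, fun h1 => he1 (Subtype.ext (Subtype.ext h1)), fun p hp =>
    congrArg Subtype.val (Subgroup.mem_center_iff.mp he.2 ⟨p, hp⟩)⟩

theorem Half.two_lt_fixed {T D : Subgroup G} {y : G} (h : Half T D y) (h4 : 4 < Nat.card D) {τ : G}
    (hτ : τ ∈ T) (hn : τ ∉ D) (hτ2 : τ * τ = 1) (hτD : ∀ d ∈ D, τ * d * τ⁻¹ ∈ D) :
    2 < Nat.card (fixedIn D τ) := by
  classical
  letI := Fintype.ofFinite D
  let ψ : D → D := fun d => ⟨(d : G)⁻¹ * (τ * d * τ⁻¹), mul_mem (inv_mem d.2) (hτD d d.2)⟩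
  let I : Finset D := Finset.univ.image ψ
  -- each fibre has at most `|C_D(τ)|` elements
  have hcard : Fintype.card D ≤ Nat.card (fixedIn D τ) * I.card := by
    rw [← Finset.card_univ]
    refine Finset.card_le_mul_card_image _ _ fun a ha => ?_
    obtain ⟨d₀, -, rfl⟩ := Finset.mem_image.mp ha
    rw [← Nat.card_eq_finsetCard]
    refine Nat.card_le_card_of_injective (fun d => (⟨(d.1 : G) * (d₀ : G)⁻¹, ?_⟩ : fixedIn D τ))
      (fun a b e => Subtype.ext (Subtype.ext (mul_right_cancel (congrArg Subtype.val e))))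
    obtain ⟨⟨d, hd⟩, hdf⟩ := d
    rw [Finset.mem_filter] at hdf
    have e : d⁻¹ * (τ * d * τ⁻¹) = (d₀ : G)⁻¹ * (τ * d₀ * τ⁻¹) := congrArg Subtype.val hdf.2
    refine mem_fixedIn.mpr ⟨mul_mem hd (inv_mem d₀.2), ?_⟩
    calc d * (d₀ : G)⁻¹ * τ = d * ((d₀ : G)⁻¹ * (τ * d₀ * τ⁻¹)) * τ * (d₀ : G)⁻¹ := by group
      _ = d * (d⁻¹ * (τ * d * τ⁻¹)) * τ * (d₀ : G)⁻¹ := by rw [e]
      _ = _ := by group
  have hτi : τ⁻¹ = τ := inv_eq_of_mul_eq_one_left hτ2
  have hI : ∀ i ∈ I, τ * (i : G) * τ⁻¹ = (i : G)⁻¹ := by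
    intro i hi
    obtain ⟨⟨d, hd⟩, -, rfl⟩ := Finset.mem_image.mp hi
    show τ * (d⁻¹ * (τ * d * τ⁻¹)) * τ⁻¹ = (d⁻¹ * (τ * d * τ⁻¹))⁻¹
    calc τ * (d⁻¹ * (τ * d * τ⁻¹)) * τ⁻¹ = τ * d⁻¹ * τ * d * (τ * τ)⁻¹ := by group
      _ = τ * d⁻¹ * τ * d := by rw [hτ2, inv_one, mul_one]
      _ = τ * d⁻¹ * τ⁻¹ * d := by rw [hτi]
      _ = _ := by group
  -- conjugates of the inverted set by `y` meet only in `1`
  let σ : D → D := fun d => ⟨y * d * y⁻¹, h.inv.conj_mem d.2⟩
  have hσ : Function.Injective σ := fun a b e =>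
    Subtype.ext (mul_left_cancel (mul_right_cancel (congrArg Subtype.val e)))
  have hdis : ∀ a ∈ I, ∀ b ∈ I, σ a = b → a = 1 := by
    intro a ha b hb e
    have e1 : y * (a : G) * y⁻¹ = b := congrArg Subtype.val e
    have h1 : (y * τ * y⁻¹) * (b : G) * (y * τ * y⁻¹)⁻¹ = (b : G)⁻¹ := by
      rw [← e1]
      calc (y * τ * y⁻¹) * (y * a * y⁻¹) * (y * τ * y⁻¹)⁻¹ = y * (τ * a * τ⁻¹) * y⁻¹ := by group
        _ = y * (a : G)⁻¹ * y⁻¹ := by rw [hI a ha]
        _ = _ := by group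
    have h3 : (τ⁻¹ * (y * τ * y⁻¹)) * (b : G) = b * (τ⁻¹ * (y * τ * y⁻¹)) := by
      have h4 : τ * (b : G) = (b : G)⁻¹ * τ := mul_inv_eq_iff_eq_mul.mp (hI b hb)
      calc (τ⁻¹ * (y * τ * y⁻¹)) * (b : G)
          = τ⁻¹ * ((y * τ * y⁻¹) * b * (y * τ * y⁻¹)⁻¹) * (y * τ * y⁻¹) := by group
        _ = τ⁻¹ * (b : G)⁻¹ * (y * τ * y⁻¹) := by rw [h1]
        _ = τ⁻¹ * ((b : G)⁻¹ * τ) * τ⁻¹ * (y * τ * y⁻¹) := by group
        _ = _ := by rw [← h4]; group
    have hb1 : b = 1 := by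
      apply Subtype.ext
      by_contra hb1
      exact not_three_dvd_of_commute h.sc hb1 (h.inv.not_dvd_orderOf b.2) h3 (h.three_dvd τ hτ hn)
    apply hσ
    rw [e, hb1]
    exact Subtype.ext (by simp [σ])
  let σI := I.image σ
  let σσI := σI.image σ
  have hσ3 : ∀ d : D, σ (σ (σ d)) = d := fun d => Subtype.ext (Inv.three_steps h.sc (d : G))
  have h12 : I ∩ σI ⊆ {1} := by
    intro a ha
    obtain ⟨ha1, ha2⟩ := Finset.mem_inter.mp ha
    obtain ⟨b, hb, rfl⟩ := Finset.mem_image.mp ha2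
    rw [Finset.mem_singleton, hdis b hb _ ha1 rfl]
    exact Subtype.ext (by simp [σ])
  have h13 : I ∩ σσI ⊆ {1} := by
    intro a ha
    obtain ⟨ha1, ha2⟩ := Finset.mem_inter.mp ha
    obtain ⟨c, hc, rfl⟩ := Finset.mem_image.mp ha2
    obtain ⟨b, hb, rfl⟩ := Finset.mem_image.mp hc
    rw [Finset.mem_singleton]
    exact hdis _ ha1 b hb (hσ3 b)
  have h23 : σI ∩ σσI ⊆ {1} := by
    intro a ha
    obtain ⟨ha1, ha2⟩ := Finset.mem_inter.mp ha
    obtain ⟨c, hc, rfl⟩ := Finset.mem_image.mp ha2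
    obtain ⟨b, hb, hbc⟩ := Finset.mem_image.mp ha1
    rw [← hσ hbc] at hc
    have : b ∈ ({1} : Finset D) := h12 (Finset.mem_inter.mpr ⟨hb, hc⟩)
    rw [Finset.mem_singleton] at this ⊢
    rw [← hbc, this]
    exact Subtype.ext (by simp [σ])
  have h12' := Finset.card_le_card h12
  have h13' := Finset.card_le_card h13
  have h23' := Finset.card_le_card h23
  have hu : I.card + σI.card + σσI.card ≤ Fintype.card D + 3 := by
    have e1 := Finset.card_union_add_card_inter I σI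
    have e2 := Finset.card_union_add_card_inter (I ∪ σI) σσI
    have e3 : ((I ∪ σI) ∩ σσI).card ≤ 2 := by
      rw [Finset.union_inter_distrib_right]
      exact (Finset.card_union_le _ _).trans (by
        rw [Finset.card_singleton] at h13' h23'
        omega)
    have e4 := Finset.card_le_univ (I ∪ σI ∪ σσI)
    rw [Finset.card_singleton] at h12'
    omega
  have hc1 : σI.card = I.card := Finset.card_image_of_injective _ hσ
  have hc2 : σσI.card = σI.card := Finset.card_image_of_injective _ hσ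
  have hmod := h.inv.card_mod h.sc
  rw [Nat.card_eq_fintype_card] at h4 hmod
  by_contra hle
  have : Nat.card (fixedIn D τ) * I.card ≤ 2 * I.card := Nat.mul_le_mul_right _ (by omega)
  omega

end CfsgLib.SCThree
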