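import Cfsg.Agent.Lib.SelfCentThree.Core

/-!
Structure of a group with a self-centralizing element of order three, given the simple ones.
-/

set_option autoImplicit false
set_option linter.unusedVariables false

namespace CfsgLib.SCThree

open CfsgLib.SelfCent

universe u

/-- The core, as a normal subgroup. -/
abbrev core3 (G : Type u) [Group G] : Subgroup G := Cfsg.pPrimeCore 3 G

instance core3_normal (G : Type u) [Group G] [Finite G] : (core3 G).Normal := pPrimeCore_normal' 3

/-- The three possible shapes. -/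
def Shape (G : Type u) [Group G] [Finite G] : Prop :=
  ((core3 G).index = 3 ∨ (core3 G).index = 6) ∨
  ((core3 G).index = 60 ∧ IsSimpleGroup (G ⧸ core3 G) ∧
    (∀ a ∈ core3 G, ∀ b ∈ core3 G, a * b = b * a) ∧ ∀ a ∈ core3 G, a * a = 1) ∨
  (core3 G = ⊥ ∧ Nat.card G = 168 ∧ IsSimpleGroup G)

variable {G : Type u} [Group G] [Finite G] {x : G}

theorem not_three_dvd_core3 : ¬ 3 ∣ Nat.card (core3 G) := fun hd => by
  have h := Nat.eq_one_of_dvd_coprimes (pPrimeCore_coprime (G := G) 3) hd (dvd_refl 3)
  norm_num at h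

theorem quotient_cases (h : SC x) (hb : ∀ N : Subgroup G, N.Normal → ¬ 3 ∣ Nat.card N → N = ⊥)
    (hS : ∀ (K : Type u) [Group K] [Finite K] [IsSimpleGroup K] (y : K),
      Nat.card K ≤ Nat.card G → ¬ IsMulCommutative K → SC y → Nat.card K = 60 ∨ Nat.card K = 168) :
    (Nat.card G = 3 ∨ Nat.card G = 6) ∨ (IsSimpleGroup G ∧ (Nat.card G = 60 ∨ Nat.card G = 168)) := by
  haveI : Fact (Nat.Prime 3) := ⟨Nat.prime_three⟩
  set M := Subgroup.normalClosure ({x} : Set G) with hM
  have hxM : x ∈ M := Subgroup.subset_normalClosure rfl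
  haveI hMn : M.Normal := Subgroup.normalClosure_normal
  have hxm := h.subgroup hxM
  haveI : Nontrivial M := ⟨⟨⟨x, hxM⟩, 1, fun e => h.ne_one (congrArg Subtype.val e)⟩⟩
  haveI : IsSimpleGroup M := by
    refine ⟨fun K hK => ?_⟩
    by_cases h3 : 3 ∣ Nat.card K
    · right
      haveI := hK
      have hle : M ≤ K.map M.subtype := by
        show Subgroup.closure (Group.conjugatesOfSet ({x} : Set G)) ≤ _
        rw [Subgroup.closure_le]
        intro z hz
        obtain ⟨a, ha, hzc⟩ := Group.mem_conjugatesOfSet_iff.mp hz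
        rw [Set.mem_singleton_iff.mp ha] at hzc
        have hzM : z ∈ M := Subgroup.conjugatesOfSet_subset_normalClosure hz
        obtain ⟨g, rfl⟩ := isConj_iff.mp hzc
        have hz3 : orderOf (g * x * g⁻¹) = 3 := by
          rw [← h.2.1, ← MulAut.conj_apply, MulEquiv.orderOf_eq]
        have hzs := (h.of_orderOf hz3).subgroup hzM
        exact ⟨⟨_, hzM⟩, zpowers_le_of_dvd hzs K h3 (Subgroup.mem_zpowers _), rfl⟩
      rw [eq_top_iff]
      rintro ⟨z, hz⟩ -
      obtain ⟨k, hk, hke⟩ := hle hz
      exact (Subtype.ext hke : k = ⟨z, hz⟩) ▸ hk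
    · left
      by_contra hne
      -- the normal closure of `K` in `G` would have order prime to three
      have hcore : K ≤ core3 M :=
        le_pPrimeCore hK ((Nat.prime_three.coprime_iff_not_dvd.mpr h3).symm)
      haveI : (core3 M).Characteristic := by
        rw [Subgroup.characteristic_iff_map_le]
        intro φ
        refine le_pPrimeCore (Subgroup.Normal.map inferInstance _ φ.surjective) ?_
        rw [← Nat.card_congr (Subgroup.equivMapOfInjective _ _ φ.injective).toEquiv]
        exact pPrimeCore_coprime 3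
      have hb' := hb ((core3 M).map M.subtype) inferInstance (fun hd =>
        not_three_dvd_core3 (G := M) (by
          rwa [← Nat.card_congr (Subgroup.equivMapOfInjective _ _ M.subtype_injective).toEquiv] at hd))
      rw [Subgroup.map_eq_bot_iff_of_injective _ M.subtype_injective] at hb'
      exact hne (le_bot_iff.mp (hb' ▸ hcore))
  by_cases hc : IsMulCommutative M
  · left
    have hMX : M = Subgroup.zpowers x := by
      refine le_antisymm (fun m hm => comm_mem_zpowers h ?_) (Subgroup.zpowers_le.mpr hxM)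
      exact congrArg Subtype.val (hc.is_comm.comm ⟨m, hm⟩ ⟨x, hxM⟩)
    have htop := sup_nzr_eq_top h M (by rw [hMX, h.card_P])
    rw [hMX, sup_eq_right.mpr self_le_nzr] at htop
    have hcl := classes_mul_eIdx h
    have hei : eIdx x ∣ 2 := ⟨_, by rw [mul_comm] at hcl; exact hcl.symm⟩
    have hG : Nat.card G = 3 * eIdx x := by
      rw [eIdx, htop, Subgroup.relIndex_top_right, ← h.card_P, Subgroup.card_mul_index]
    rcases (Nat.dvd_prime Nat.prime_two).mp hei with e | e <;> rw [e] at hG <;> omega
  · right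
    obtain ⟨P, hP⟩ := exists_sylow h
    have h3M : 3 ∣ Nat.card M := h.2.1 ▸ Subgroup.orderOf_dvd_natCard M hxM
    -- an element of `M` inverts `x`, so the normalizer lies in `M`
    obtain ⟨g, hg⟩ := isConj_iff.mp (isConj_inv hc hxm)
    have hg' : (g : G) * x * (g : G)⁻¹ = x⁻¹ := congrArg Subtype.val hg
    have hN : nzr x ≤ M := by
      intro n hn
      rcases mem_zpowers_cases h ((mem_nzr_iff h).mp hn) with e | e | e
      · exact absurd (conj_eq_one_iff.mp e) h.ne_one
      · exact (Subgroup.zpowers_le.mpr hxM) (comm_mem_zpowers h (mul_inv_eq_iff_eq_mul.mp e))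
      · have hcm : ((g : G)⁻¹ * n) * x = x * ((g : G)⁻¹ * n) := by
          calc ((g : G)⁻¹ * n) * x = (g : G)⁻¹ * (n * x * n⁻¹) * n := by group
            _ = (g : G)⁻¹ * ((g : G) * x * (g : G)⁻¹) * n := by rw [e, hg']
            _ = _ := by group
        have := mul_mem g.2 ((Subgroup.zpowers_le.mpr hxM) (comm_mem_zpowers h hcm))
        rwa [mul_inv_cancel_left] at this
    have htop := sup_nzr_eq_top h M h3M
    rw [sup_eq_left.mpr hN] at htop
    have e : M ≃* G := (MulEquiv.subgroupCongr htop).trans Subgroup.topEquiv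
    refine ⟨e.isSimpleGroup_congr.mp inferInstance, ?_⟩
    rw [← Nat.card_congr e.toEquiv]
    exact hS M ⟨x, hxM⟩ (Subgroup.card_le_card_group M) hc hxm

theorem shape (h : SC x)
    (hS : ∀ (K : Type u) [Group K] [Finite K] [IsSimpleGroup K] (y : K),
      Nat.card K ≤ Nat.card G → ¬ IsMulCommutative K → SC y → Nat.card K = 60 ∨ Nat.card K = 168) :
    Shape G := by
  have hO := not_three_dvd_core3 (G := G)
  set O := core3 G with hOdef
  have hb : ∀ N : Subgroup (G ⧸ O), N.Normal → ¬ 3 ∣ Nat.card N → N = ⊥ := by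
    intro N hN h3
    haveI := hN
    have hle : N.comap (QuotientGroup.mk' O) ≤ O := by
      refine le_pPrimeCore inferInstance ((Nat.prime_three.coprime_iff_not_dvd.mpr fun hd => ?_).symm)
      have hc : Nat.card (N.comap (QuotientGroup.mk' O)) = Nat.card O * Nat.card N :=
        QuotientGroup.card_preimage_mk O N
      rw [hc] at hd
      exact (Nat.prime_three.dvd_mul.mp hd).elim hO h3
    rw [Subgroup.eq_bot_iff_forall]
    intro q hq
    obtain ⟨g, rfl⟩ := QuotientGroup.mk_surjective q
    exact (QuotientGroup.eq_one_iff g).mpr (hle hq)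
  rcases quotient_cases (h.quotient O hO) hb (fun K _ _ _ y hK hc hy =>
    hS K y (hK.trans (Nat.le_of_dvd Nat.card_pos (Subgroup.card_quotient_dvd_card O))) hc hy)
    with h36 | ⟨hsimp, h60 | h168⟩
  · exact Or.inl h36
  · exact Or.inr (Or.inl ⟨h60, hsimp, elementary_sixty _ G x O rfl h hO h60⟩)
  · have hbot := eq_bot_oneSixtyEight O h hO h168
    have e : G ⧸ O ≃* G := (QuotientGroup.quotientMulEquivOfEq hbot).trans QuotientGroup.quotientBot
    exact Or.inr (Or.inr ⟨hbot, by rw [← Nat.card_congr e.toEquiv, h168],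
      e.isSimpleGroup_congr.mp hsimp⟩)

end CfsgLib.SCThree
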